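import Cfsg.Agent.ODD.Defs
import Cfsg.Agent.H670.SL2Odd
import Cfsg.Agent.Blocks.Basic

/-!
# ODD / GAL: `SL₂(q)`, `q` odd (helper6)

* `ty_odd` : the types of the characters of odd degree;
* `eq_of_x` : an irreducible character of odd degree is determined by its values on the root group;
* `oddRat_sl2` : `OddRat (SL₂(F))` for every finite field of odd order;
* `map_eq_comp` : the form for GAL (`σ ∘ χ = χ ∘ δ`).
-/

set_option autoImplicit false

open Cfsg

namespace Cfsg.Agent.ODD.PS.S2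

open Matrix Cfsg.Agent.H670 Cfsg.Agent.H670.SL2 Cfsg.Agent.H670.RankOne Cfsg.Agent.ODD.Red Cfsg.Agent.Characters

universe v

variable {F : Type v} [Field F] [Fintype F]

theorem deg_ty [DecidableEq F] {nu : F} (hnu : ¬ IsSquare nu) (χ : IrrCharacter (SpecialLinearGroup (Fin 2) F)) {h : ℕ}
    (hq : Fintype.card F = 2 * h + 1) :
    charDegree (χ : SpecialLinearGroup (Fin 2) F → ℂ) = (ty nu χ).1 + h * ((ty nu χ).2.1 + (ty nu χ).2.2) := by
  have h1 := degree_eq_ty hnu χ hq
  rw [Blocks.Basic.irr_one_eq_charDegree χ.2] at h1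
  exact_mod_cast h1

/-- the types of the characters of odd degree -/
theorem ty_odd [DecidableEq F] {nu : F} (hnu : ¬ IsSquare nu) (χ : IrrCharacter (SpecialLinearGroup (Fin 2) F))
    (hodd : Odd (charDegree (χ : SpecialLinearGroup (Fin 2) F → ℂ))) :
    ty nu χ = (1, 0, 0) ∨ ty nu χ = (1, 1, 0) ∨ ty nu χ = (1, 0, 1) ∨ ty nu χ = (1, 1, 1) ∨ ty nu χ = (0, 1, 0) ∨
      ty nu χ = (0, 0, 1) := by
  obtain ⟨h, hq⟩ : ∃ h, Fintype.card F = 2 * h + 1 :=
    ⟨Fintype.card F / 2, by have := FiniteField.odd_card_of_char_ne_two (char_ne_two hnu); omega⟩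
  rw [deg_ty hnu χ hq] at hodd
  have ht := ty_mem hnu χ
  generalize ty nu χ = p at ht hodd
  simp only [tys, Finset.mem_insert, Finset.mem_singleton] at ht
  rcases ht with rfl | rfl | rfl | rfl | rfl | rfl | rfl | rfl
  · exact absurd hodd (by rw [Nat.odd_iff]; simp only; omega)
  · simp
  · simp
  · simp
  · simp
  · exact absurd hodd (by rw [Nat.odd_iff]; simp only; omega)
  · simp
  · simp

theorem ty_congr (nu : F) {χ χ' : IrrCharacter (SpecialLinearGroup (Fin 2) F)}
    (h : ∀ s, (χ' : SpecialLinearGroup (Fin 2) F → ℂ) (x s) = (χ : SpecialLinearGroup (Fin 2) F → ℂ) (x s)) :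
    ty nu χ' = ty nu χ := by
  have h1 : ∀ c, (data F).n χ' c = (data F).n χ c := by
    intro c
    rw [Data.n_eq_iff, ← Data.cf_eq_n, Data.cf_def, Data.cf_def]
    simp only [data_X, h]
  simp only [ty, h1]

/-- a character of odd degree is determined by its type -/
theorem eq_of_ty [DecidableEq F] {nu : F} (hnu : ¬ IsSquare nu) {χ χ' : IrrCharacter (SpecialLinearGroup (Fin 2) F)}
    (hodd : Odd (charDegree (χ : SpecialLinearGroup (Fin 2) F → ℂ))) (h : ty nu χ' = ty nu χ) : χ' = χ := by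
  obtain ⟨k, hq⟩ : ∃ h, Fintype.card F = 2 * h + 1 :=
    ⟨Fintype.card F / 2, by have := FiniteField.odd_card_of_char_ne_two (char_ne_two hnu); omega⟩
  have := Core.finite_irr (G := SpecialLinearGroup (Fin 2) F)
  have : Fintype (IrrCharacter (SpecialLinearGroup (Fin 2) F)) := Fintype.ofFinite _
  obtain ⟨-, c2, c3, c4, c5, -, c7, c8⟩ := counts hnu hq
  have h1 : N nu (ty nu χ) = 1 := by
    rcases ty_odd hnu χ hodd with e | e | e | e | e | e <;> rw [e] <;> assumption
  rw [N] at h1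
  exact Finset.card_le_one.1 h1.le _ (Finset.mem_filter.2 ⟨Finset.mem_univ _, h⟩) _
    (Finset.mem_filter.2 ⟨Finset.mem_univ _, rfl⟩)

/-- **an irreducible character of odd degree is determined by its values on the root group** -/
theorem eq_of_x (hF : Odd (Fintype.card F)) {χ χ' : SpecialLinearGroup (Fin 2) F → ℂ}
    (hχ : IsIrrCharacter _ χ) (hχ' : IsIrrCharacter _ χ') (hodd : Odd (charDegree χ))
    (h : ∀ s, χ' (x s) = χ (x s)) : χ' = χ := by
  classical
  obtain ⟨nu, hnu⟩ := exists_not_square hF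
  exact congrArg Subtype.val (eq_of_ty hnu (χ := ⟨χ, hχ⟩) (χ' := ⟨χ', hχ'⟩) hodd (ty_congr nu h))

omit [Fintype F] in
theorem x_pow (s : F) (k : ℕ) : x s ^ k = x ((k : F) * s) := by
  induction k with
  | zero => rw [pow_zero, Nat.cast_zero, zero_mul]; exact (data F).X_zero.symm
  | succ k ih =>
    rw [pow_succ, ih, Nat.cast_succ, add_mul, one_mul]
    exact ((data F).X_add _ _).symm

theorem x_pow_card (s : F) : x s ^ Fintype.card F = 1 := by
  rw [x_pow, FiniteField.cast_card_eq_zero, zero_mul]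
  exact (data F).X_zero

/-- the form for GAL: `σ` raises the `q`-th roots of unity to the power `k`, `δ` multiplies the root group by `k` -/
theorem map_eq_comp (hF : Odd (Fintype.card F)) {σ : ℂ ≃+* ℂ} {k : ℕ}
    (hσ : ∀ z : ℂ, z ^ Fintype.card F = 1 → σ z = z ^ k)
    (δ : SpecialLinearGroup (Fin 2) F ≃* SpecialLinearGroup (Fin 2) F) (hδ : ∀ s, δ (x s) = x ((k : F) * s))
    {χ : SpecialLinearGroup (Fin 2) F → ℂ} (hχ : IsIrrCharacter _ χ) (hodd : Odd (charDegree χ))
    (g : SpecialLinearGroup (Fin 2) F) : χ (δ g) = σ (χ g) := by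
  have h1 : IsIrrCharacter _ (fun g => σ.symm (χ (δ g))) :=
    GaloisIrr.isIrr_map σ.symm (χ := fun g => χ (δ g)) (Core.isIrr_comp δ.toMonoidHom δ.surjective hχ)
  have h2 := eq_of_x hF hχ h1 hodd fun s => by
    rw [RingEquiv.symm_apply_eq, hδ, ← x_pow]
    exact (GaloisBasic.map_apply (σ : ℂ →+* ℂ) hσ (Core.isIrr_isCharacter hχ) Fintype.card_ne_zero (x_pow_card s)).symm
  rw [← congrFun h2 g, RingEquiv.apply_symm_apply]

/-- **`SL₂(q)`, `q` odd** -/
theorem oddRat_sl2 (hF : Odd (Fintype.card F)) : OddRat (SpecialLinearGroup (Fin 2) F) := by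
  intro χ hχ hodd τ hτ g
  exact (map_eq_comp hF (σ := τ) (k := 1) (fun z hz => by rw [pow_one]; exact hτ _ z hF hz) (MulEquiv.refl _)
    (fun s => by rw [Nat.cast_one, one_mul]; rfl) hχ hodd g).symm

end Cfsg.Agent.ODD.PS.S2
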