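import Cfsg.Agent.ODD.PS.C3Main
import Cfsg.Agent.GAL.TS.Main

/-!
# GAL: `PSp_{2m}(q)`, `q ≡ 3 mod 4` (helper6): **`c3g : GAL.TS.C3G`**, **`rowG_psp`**
-/

set_option autoImplicit false

namespace Cfsg.Agent.ODD.PS.C3

open Cfsg Cfsg.Agent.H684.OQ Cfsg.Agent.GAL Cfsg.Agent.GAL.TS Cfsg.Agent.Tits.Roots

theorem c3g : C3G := by
  intro F _ _ h2 m hm h4 θ h1 σ hσ z
  obtain ⟨k, rfl⟩ : ∃ k, m = k + 1 := ⟨m - 1, by omega⟩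
  have hF : Odd (Fintype.card F) := by rw [Nat.odd_iff]; omega
  obtain ⟨p, _, _, hp2, -⟩ := PW.exists_char F hF
  have := PW.finB (k + 1)
  have : Finite (PSp (k + 1) F) := inferInstance
  obtain ⟨γ, hγ⟩ := IsCyclic.exists_generator (α := Fˣ)
  have D := diag_dR h2 (k + 1) p (CoxeterMatrix.B (k + 1)).toCoxeterSystem
  refine fix_sp (ODD.C3.sp_Phi p (CoxeterMatrix.B (k + 1)).toCoxeterSystem hγ) (ODD.C3.parS k F _ _ h4) h4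
    ⟨D.fixT, fun _ hu => D.mapU hu, fun _ hu => D.mapSup (fun _ ha => ⟨ha.1, ha.2.1⟩) hu,
      D.mapX _ ⟨isRoot_sr _ _ _, sr_nonneg _⟩, fun v _ hk => D.mapRp v hk, ?_,
      ⟨_, ODD.C3.dR_Phi _ (by simp), fun ψ h5 h6 s => act_sl h2 ψ ⟨h5, Nat.two_dvd_ne_zero.2 (Nat.odd_iff.1 h6)⟩ σ hσ s⟩⟩
    h1.1 (Nat.odd_iff.2 (Nat.two_dvd_ne_zero.1 h1.2)) z
  obtain ⟨psi, h5, h6⟩ := D.exists_psi Fact.out
  refine ⟨psi, h5, fun u hu => ?_⟩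
  rw [h6 u hu, Units.val_pow_eq_pow_val]
  refine (hσ.2 _ _ (odd_U (rgdS (k + 1) F p (CoxeterMatrix.B (k + 1)).toCoxeterSystem) Fact.out hp2) ?_).symm
  rw [← Units.val_pow_eq_pow_val, ← map_pow, pow_card_eq_one', map_one, Units.val_one]

/-- **`BoxOdd.psp`** -/
theorem rowG_psp : RowG ODD.PspO := rowG_psp_of c3g

end Cfsg.Agent.ODD.PS.C3
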