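import Cfsg.Agent.ODD.PS.C3H4
import Cfsg.Agent.ODD.C3.K
import Cfsg.Agent.ODD.C3.Q
import Cfsg.Agent.ODD.C3.MMain
import Cfsg.Agent.ODD.C3.Par
import Cfsg.Agent.ODD.PW.Rows
import Cfsg.Agent.ODD.Cov.Fam
import Cfsg.Agent.ODD.Hk.Main

/-!
# ODD / GAL: `PSp_{2n}(q)`, `q` odd: the row (helper6)

* `fix_sp` : `q ≡ 3 mod 4`, `χ` irreducible of odd degree, `Au R l Φ σ δ` : `χ ∘ δ = σ ∘ χ`;
* `oddRat_psp3`, **`rowS_psp`**, **`rowO_psp`**.
-/

set_option autoImplicit false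
set_option linter.unusedSectionVars false

open Cfsg

namespace Cfsg.Agent.ODD.PS.C3

open CoxeterSystem Cfsg.Agent.ChevalleyStructure.CoxeterGeom Cfsg.Agent.Tits.Roots Cfsg.Agent.Tits.Core
  Cfsg.Agent.Nodes.Reps Cfsg.Agent.Nodes.BNOf Cfsg.Agent.Nodes.Bruhat Cfsg.Agent.Nodes.StabComb
  Cfsg.Agent.Nodes.SubComb Cfsg.Agent.H684.OQ Cfsg.Agent.H670 Cfsg.Agent.H381.OQ Cfsg.Agent.ODD.Red
  Cfsg.Agent.Characters

theorem odd_of_ev {z : ℂ} {d k : ℕ} (hd : Odd d) (hz : Lev.Ev (z - d)) (hk : z = k) : Odd k := by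
  have h1 := two_dvd_of (m := (k : ℤ) - d) hz (by push_cast; rw [← hk]; ring)
  rw [Nat.odd_iff] at hd ⊢
  omega

section sp

variable {m : ℕ} {W Y : Type} [Group W] [Finite W] [Group Y] [Finite Y]
  {cs : CoxeterSystem (CoxeterMatrix.B (m + 1)) W} {p : ℕ} {T : Subgroup Y}
  {n : Fin (m + 1) → Y} {X : (Fin (m + 1) → ℤ) → Subgroup Y} {F : Type} [Field F] [Fintype F]
  {R : RGD cs (Nodes.TypeC.isCartan (m + 1)) p T n X} {Φ : S2 F →* Y} {gg : Fin (m + 1) → Y}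

theorem Sp.gd (S : Sp R Φ gg) : Gd R (isCartanT (m + 1)) (Fin.last m) Φ (CoxeterMatrix.B m).toCoxeterSystem
    (Nodes.TypeC.isCartan m) (bC m) (wC cs) (iC m)
    fun j => if (j : ℕ) + 1 < m then n j.castSucc else n j.castSucc * Φ SL2.wel * (n j.castSucc)⁻¹ where
  nd := S.nd
  sb := ODD.C3.ks m W _ cs _
  rp j := by
    unfold rfl' wC iC
    split_ifs
    · rw [one_mul, inv_one, mul_one]
      exact rp_simple cs R.nsys _
    · exact ((rp_simple cs R.nsys _).mul S.nd.wel).mul (rp_simple cs R.nsys _).inv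
  cen j := by
    split_ifs with hj
    · exact (S.short j hj).1
    · exact S.long j hj
  sh j hj := by
    unfold wC at hj
    unfold iC
    split_ifs at hj ⊢ with h1
    · exact ⟨rfl, (S.short j h1).2⟩
    · exact absurd hj (AH.simple_ne_one _)

/-- **the characters of odd degree, `q ≡ 3 mod 4`** -/
theorem fix_sp (S : Sp R Φ gg) (hP : Par cs X) (h4 : Fintype.card F % 4 = 3)
    {σ : ℂ ≃+* ℂ} {δ : Y ≃* Y} (a : Au R (Fin.last m) Φ σ δ) {χ : Y → ℂ} (hχ : IsIrrCharacter Y χ)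
    (hodd : Odd (charDegree χ)) (z : Y) : χ (δ z) = σ (χ z) := by
  have hM := AH.main Hk.ho
  have := PW.finB m
  have G := S.gd
  have hc := Core.isIrr_isCharacter hχ
  obtain ⟨h1, h2⟩ := hP χ hc
  rw [Blocks.Basic.irr_one_eq_charDegree hχ] at h1 h2
  rcases Nat.even_or_odd (m + 1) with h3 | h3
  · have := Fintype.ofFinite ↥(UU cs (Nodes.TypeC.isCartan (m + 1)) X)
    obtain ⟨lam, h5, h6⟩ := exists_lam_of_sum R S.nd.top S.nd.comm hχ hodd (h1 h3)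
      (by rw [finsum_eq_sum_of_fintype]; ring)
    obtain ⟨v, hv, hv'⟩ := G.sb.neg
    exact G.fix_ps hM S.cor S.gen a hχ hv' (mem_of_center h6 (neg_comm hv) (neg_sq hv)) h5 z
  · have := Fintype.ofFinite ↥(VV cs (Nodes.TypeC.isCartan (m + 1)) X (Fin.last m))
    obtain ⟨d, hd⟩ := lin_idem hc (eV_mul_eV (cs := cs) (h := Nodes.TypeC.isCartan (m + 1)) (X := X) (l := Fin.last m))
    have h5 : Odd (Nat.card ↥(VV cs (Nodes.TypeC.isCartan (m + 1)) X (Fin.last m)) * d) := by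
      refine odd_of_ev hodd (h2 h3) ?_
      rw [Nat.cast_mul, ← hd, ← one_mul (eV _ _ _ _), ← mul_one (1 * _), eV, lin_av, smul_eq_mul,
        mul_inv_cancel_left₀ (card_ne _), finsum_eq_sum_of_fintype]
      exact Finset.sum_congr rfl fun u _ => by simp [lin_dl]
    rcases ODD.C3.qs _ W Y _ cs _ _ p T n X R F _ Φ S.nd h4 χ hc ⟨d, (Nat.odd_mul.1 h5).2, hd⟩ with h6 |
      ⟨ψ, hψ, h6, h7⟩
    · exact G.fix1 hM S.cor S.gen a hχ h6 z
    · obtain ⟨psi, hpsi, h8⟩ := a.psi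
      obtain ⟨d₀, h9, h10⟩ := a.sl2
      have key : ∀ psi : ↥(UU cs (Nodes.TypeC.isCartan (m + 1)) X) →* ℂˣ, Nondeg psi →
          (∀ u hu, ((psi ⟨δ u, a.mapU u hu⟩ : ℂˣ) : ℂ) = σ (psi ⟨u, hu⟩ : ℂˣ)) →
          ∀ φ, φ = (psiL (Fin.last m) psi).comp S.nd.xl → Cusp (fc ψ φ) φ →
          (∃ d : ℕ, Odd d ∧ lin χ (eV cs (Nodes.TypeC.isCartan (m + 1)) X (Fin.last m) * mp Φ (fc ψ φ)) = d) →
          χ (δ z) = σ (χ z) := by
        rintro psi hpsi h8 _ rfl C h11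
        refine G.fix2 hM S.cor S.gen a hχ h4 hpsi h8 C ?_ h11 z
        rw [fc, map_mul, map_mul, ODD.C3.tw_mp σ Φ h9, ODD.C3.Q.tw_cen σ d₀ (h10 ψ hψ h6), S.nd.mp_eph,
          tw_av σ δ _ a.mapX fun u hu => h8 u (X_le_U _ hu)]
      obtain ⟨φ, h11, C, h12⟩ := h7 ((psiL (Fin.last m) psi).comp S.nd.xl) fun e => by
        obtain ⟨x, hx, hne⟩ := hpsi (Fin.last m)
        obtain ⟨r, hr⟩ := S.nd.xl_bij.2 ⟨x, hx⟩
        have h11 := DFunLike.congr_fun e r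
        rw [MonoidHom.comp_apply, hr] at h11
        exact hne h11
      rcases h11 with h11 | h11
      · exact key psi hpsi h8 φ h11 C h12
      · refine key psi⁻¹ (fun j => ?_) (fun u hu => ?_) φ h11 C h12
        · obtain ⟨x, hx, hne⟩ := hpsi j
          exact ⟨x, hx, fun e => hne (inv_eq_one.1 e)⟩
        · rw [MonoidHom.inv_apply, MonoidHom.inv_apply, Units.val_inv_eq_inv_val, Units.val_inv_eq_inv_val, h8,
            map_inv₀]

theorem au_refl (hp : p.Prime) (hp2 : p ≠ 2) (hF : Odd (Fintype.card F)) {τ : ℂ ≃+* ℂ} (hτ : Two τ) :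
    Au R (Fin.last m) Φ τ (MulEquiv.refl Y) where
  fixT _ _ := rfl
  mapU _ hu := hu
  mapV _ hu := hu
  mapX _ hu := hu
  mapN _ k _ := by rw [MulEquiv.refl_apply, inv_mul_cancel]; exact one_mem _
  psi := by
    obtain ⟨psi, hpsi⟩ := exists_nondeg R hp
    refine ⟨psi, hpsi, fun u hu => (hτ _ _ (odd_U R hp hp2) ?_).symm⟩
    rw [← Units.val_pow_eq_pow_val, ← map_pow, pow_card_eq_one', map_one, Units.val_one]
  sl2 := ⟨MulEquiv.refl _, fun _ => rfl, fun ψ h1 h2 s => (S2.oddRat_sl2 hF ψ h1 h2 τ hτ s).symm⟩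

end sp

/-- **`PSp_{2m}(q)`**, `q ≡ 3 mod 4` -/
theorem oddRat_psp3 (F : Type) [Field F] [Fintype F] {m : ℕ} (hm : 1 ≤ m) [Finite (PSp m F)]
    (h4 : Fintype.card F % 4 = 3) : OddRat (PSp m F) := by
  obtain ⟨k, rfl⟩ : ∃ k, m = k + 1 := ⟨m - 1, by omega⟩
  have hF : Odd (Fintype.card F) := by rw [Nat.odd_iff]; omega
  obtain ⟨p, _, _, hp2, -⟩ := PW.exists_char F hF
  have := PW.finB (k + 1)
  obtain ⟨Φ, gg, S⟩ := ODD.C3.ms k F p _ (CoxeterMatrix.B (k + 1)).toCoxeterSystem hF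
  intro χ hχ hodd τ hτ z
  exact (fix_sp S (ODD.C3.parS k F _ _ h4) h4 (au_refl Fact.out hp2 hF hτ) hχ hodd z).symm

theorem rowS_psp : RowS PspO := by
  rintro S _ _ _ ⟨F, _, _, m, h1, hm, ⟨e⟩⟩
  have : Finite (PSp m F) := Finite.of_equiv _ e.toEquiv
  refine Cv.oddRat_congr e ?_
  by_cases h4 : Fintype.card F % 4 = 1
  · exact PW.oddRat_psp (AH.main Hk.ho) F hm h4
  · exact oddRat_psp3 F (by omega) (by rw [Nat.odd_iff] at h1; omega)

/-- **`BoxO.psp`** -/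
theorem rowO_psp : RowO PspO := Cv.plain_psp.rowO rowS_psp

end Cfsg.Agent.ODD.PS.C3
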