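import Cfsg.Agent.Tits.Roots

/-!
# ODD / GAL: Steinberg's theorem on stabilisers, for a Cartan matrix with finite Weyl group (helper6)

Weights are the linear forms `x` on the lattice `I → ℤ`, `ac w x = x ∘ w`, `wt β = ∑ β_i ⟨·, α_i^∨⟩`.

* `five` : no product of two reflections has order `5`;
* `mem_of_wt` : `x ∘ w = x + m • wt β` : then `w` lies in every subgroup containing the reflections in the roots `a` with
  `m ∣ x a`;
* `pow_mem` : `x ∘ w ≡ x mod m` and `d • y ∈ range wt` for all weights `y` : `w ^ d` lies in it; `pow_mem_self` : `d = m`.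
-/

set_option autoImplicit false
set_option linter.unusedSectionVars false

namespace Cfsg.Agent.ODD.PS.St

open CoxeterSystem Cfsg.Agent.ChevalleyStructure.CoxeterGeom Cfsg.Agent.Tits.Roots

variable {I W : Type*} [Fintype I] [DecidableEq I] [Group W] {M : CoxeterMatrix I}
  (cs : CoxeterSystem M W) {A : I → I → ℤ} (h : IsCartan M A)

/-- weights -/
abbrev Fm (I : Type*) : Type _ := (I → ℤ) →+ ℤ

/-- `x ∘ w` -/
def ac (w : W) (x : Fm I) : Fm I := x.comp (rep cs h w).toAddMonoidHom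

theorem ac_apply (w : W) (x : Fm I) (a : I → ℤ) : ac cs h w x a = x (rep cs h w a) := rfl

theorem ac_mul (v w : W) (x : Fm I) : ac cs h (v * w) x = ac cs h w (ac cs h v x) := by
  refine AddMonoidHom.ext fun a => ?_
  simp only [ac_apply, rep_mul_apply]

theorem ac_one (x : Fm I) : ac cs h 1 x = x := by
  refine AddMonoidHom.ext fun a => ?_
  rw [ac_apply, map_one, Module.End.one_apply]

theorem ac_add (w : W) (x y : Fm I) : ac cs h w (x + y) = ac cs h w x + ac cs h w y := rfl

theorem ac_sub (w : W) (x y : Fm I) : ac cs h w (x - y) = ac cs h w x - ac cs h w y := rfl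

theorem ac_smul (w : W) (m : ℤ) (x : Fm I) : ac cs h w (m • x) = m • ac cs h w x := rfl

/-- the simple coroots -/
def pr (A : I → I → ℤ) (i : I) : Fm I := AddMonoidHom.mk' (pairing A i) (pairing_add A i)

theorem pr_apply (i : I) (a : I → ℤ) : pr A i a = pairing A i a := rfl

theorem pr_sr (i j : I) : pr A i (sr j) = A i j := by
  rw [pr_apply, sr, pairing_single, mul_one]

/-- the coroot lattice -/
def wt (A : I → I → ℤ) : (I → ℤ) →+ Fm I :=
  AddMonoidHom.mk' (fun β => ∑ i, β i • pr A i) fun β γ => by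
    simp only [Pi.add_apply, add_smul, Finset.sum_add_distrib]

theorem wt_def (β : I → ℤ) : wt A β = ∑ i, β i • pr A i := rfl

theorem wt_sr (i : I) : wt A (sr i) = pr A i := by
  rw [wt_def, Finset.sum_eq_single i, sr_self, one_smul]
  · intro j _ hj
    rw [sr_ne hj, zero_smul]
  · intro hi
    exact absurd (Finset.mem_univ i) hi

theorem ac_simple (i : I) (x : Fm I) : ac cs h (cs.simple i) x = x - x (sr i) • pr A i := by
  refine AddMonoidHom.ext fun a => ?_
  rw [ac_apply, rep_simple_eq, map_sub, map_zsmul, AddMonoidHom.sub_apply, AddMonoidHom.smul_apply, pr_apply,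
    smul_eq_mul, smul_eq_mul, mul_comm]

theorem exists_wt (x : Fm I) (w : W) : ∃ β, ac cs h w x = x + wt A β := by
  induction w using cs.simple_induction_right with
  | one => exact ⟨0, by rw [ac_one, map_zero, add_zero]⟩
  | mul_simple_right w i ih =>
    obtain ⟨β, hβ⟩ := ih
    refine ⟨β - ((x + wt A β) (sr i)) • sr i, ?_⟩
    rw [ac_mul, hβ, ac_simple, map_sub, map_zsmul, wt_sr]
    abel

theorem exists_wt' (β : I → ℤ) (w : W) : ∃ γ, ac cs h w (wt A β) = wt A γ := by
  obtain ⟨γ, hγ⟩ := exists_wt cs h (wt A β) w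
  exact ⟨β + γ, by rw [hγ, map_add]⟩

/-- the root of the pair `(w, i)` -/
abbrev rt (w : W) (i : I) : I → ℤ := rep cs h w (sr i)

/-- its coroot -/
def co (w : W) (i : I) : Fm I := ac cs h w⁻¹ (pr A i)

theorem co_rt (w : W) (i : I) : co cs h w i (rt cs h w i) = 2 := by
  rw [co, ac_apply, rep_inv_apply, pr_sr, h.diag]

theorem ac_rf (w : W) (i : I) (x : Fm I) :
    ac cs h (w * cs.simple i * w⁻¹) x = x - x (rt cs h w i) • co cs h w i := by
  rw [ac_mul, ac_mul, ac_simple, ac_sub, ← ac_mul, mul_inv_cancel, ac_one]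
  rfl

theorem rep_rf (w : W) (i : I) (a : I → ℤ) :
    rep cs h (w * cs.simple i * w⁻¹) a = a - co cs h w i a • rt cs h w i := by
  rw [rep_mul_apply, rep_mul_apply, rep_simple_eq, map_sub, map_zsmul, rep_apply_inv]
  rfl

theorem exists_co (w : W) (i : I) : ∃ β, co cs h w i = wt A β := by
  rw [co, ← wt_sr]
  exact exists_wt' cs h _ _

include h in
/-- no product of two reflections has order `5` -/
theorem five (r s : W) (hr : cs.IsReflection r) (hs : cs.IsReflection s) : orderOf (r * s) ≠ 5 := by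
  obtain ⟨v, i, rfl⟩ := hr
  obtain ⟨w, j, rfl⟩ := hs
  intro h5
  set g := v * cs.simple i * v⁻¹ * (w * cs.simple j * w⁻¹) with hg
  set a := rt cs h v i
  set b := rt cs h w j
  set x := co cs h v i
  set y := co cs h w j
  have hxa : x a = 2 := co_rt cs h v i
  have hyb : y b = 2 := co_rt cs h w j
  have hg1 : ∀ u, rep cs h g u = u - x u • a - y u • (b - x b • a) := fun u => by
    rw [hg, rep_mul_apply, rep_rf cs h w j u, map_sub, map_zsmul, rep_rf, rep_rf]
  have ha : rep cs h g a = (y a * x b - 1) • a - y a • b := by rw [hg1, hxa]; module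
  have hb : rep cs h g b = x b • a - b := by rw [hg1, hyb]; module
  set t := y a * x b - 2 with ht
  have h1 : ∀ c d : ℤ, rep cs h g (rep cs h g (c • a + d • b)) = t • rep cs h g (c • a + d • b) - (c • a + d • b) := by
    intro c d
    simp only [map_add, map_zsmul, map_sub, ha, hb, ht]
    module
  have hne : g ≠ 1 := fun e => by
    rw [e, orderOf_one] at h5
    omega
  obtain ⟨u, hu⟩ : ∃ u, rep cs h g u - u ≠ 0 := by
    by_contra hcon
    push Not at hcon
    exact hne (eq_one_of_fix cs h g fun k => sub_eq_zero.1 (hcon _))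
  have h2 : rep cs h g u - u = (y u * x b - x u) • a + (-y u) • b := by rw [hg1]; module
  have h3 := h1 (y u * x b - x u) (-y u)
  rw [← h2] at h3
  set z := rep cs h g u - u with hz
  have h4 : ∀ u, rep cs h g (rep cs h g (rep cs h g (rep cs h g (rep cs h g u)))) = u := fun u => by
    have h6 := pow_orderOf_eq_one g
    rw [h5] at h6
    rw [← rep_mul_apply, ← rep_mul_apply, ← rep_mul_apply, ← rep_mul_apply,
      show g * g * g * g * g = g ^ 5 by simp only [pow_succ, pow_zero, one_mul], h6, map_one, Module.End.one_apply]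
  have h6 : z + rep cs h g z + rep cs h g (rep cs h g z) + rep cs h g (rep cs h g (rep cs h g z)) +
      rep cs h g (rep cs h g (rep cs h g (rep cs h g z))) = 0 := by
    simp only [hz, map_sub, h4]
    abel
  simp only [h3, map_sub, map_zsmul] at h6
  have h7 : (t ^ 2 + t - 1) • (t • rep cs h g z - z) = 0 := by rw [← h6]; module
  have h8 : t ^ 2 + t - 1 ≠ 0 := fun e => by
    have : Even (t * (t + 1)) := Int.even_mul_succ_self t
    have e2 : t * (t + 1) = 1 := by linear_combination e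
    rw [e2] at this
    exact Int.not_even_one this
  have h9 := (smul_eq_zero.1 h7).resolve_left h8
  rw [h9] at h3
  have h10 := rep_injective_apply cs h g (h3.trans (map_zero _).symm)
  exact hu (rep_injective_apply cs h g (h10.trans (map_zero _).symm))

variable [Fintype W]

/-- the invariant form on the weights -/
def B (x y : Fm I) : ℤ := ∑ w : W, ∑ i, x (rt cs h w i) * y (rt cs h w i)

theorem B_comm (x y : Fm I) : B cs h x y = B cs h y x :=
  Finset.sum_congr rfl fun _ _ => Finset.sum_congr rfl fun _ _ => mul_comm _ _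

theorem B_sub (x y z : Fm I) : B cs h (x - y) z = B cs h x z - B cs h y z := by
  simp only [B, AddMonoidHom.sub_apply, sub_mul, Finset.sum_sub_distrib]

theorem B_smul (m : ℤ) (x z : Fm I) : B cs h (m • x) z = m * B cs h x z := by
  simp only [B, AddMonoidHom.smul_apply, smul_eq_mul, Finset.mul_sum, mul_assoc]

theorem B_ac (g : W) (x y : Fm I) : B cs h (ac cs h g x) (ac cs h g y) = B cs h x y :=
  Fintype.sum_equiv (Equiv.mulLeft g) _ _ fun w => by
    simp only [Equiv.coe_mulLeft, ac_apply, rep_mul_apply]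

theorem B_sq (x y : Fm I) (m : ℤ) :
    B cs h (x - m • y) (x - m • y) = B cs h x x - 2 * m * B cs h x y + m * m * B cs h y y := by
  simp only [B, AddMonoidHom.sub_apply, AddMonoidHom.smul_apply, smul_eq_mul, Finset.mul_sum, ← Finset.sum_sub_distrib,
    ← Finset.sum_add_distrib]
  exact Finset.sum_congr rfl fun _ _ => Finset.sum_congr rfl fun _ _ => by ring

theorem B_nonneg (x : Fm I) : 0 ≤ B cs h x x :=
  Finset.sum_nonneg fun _ _ => Finset.sum_nonneg fun _ _ => mul_self_nonneg _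

theorem B_pos {x : Fm I} {w : W} {i : I} (hx : x (rt cs h w i) ≠ 0) : 0 < B cs h x x :=
  Finset.sum_pos' (fun _ _ => Finset.sum_nonneg fun _ _ => mul_self_nonneg _) ⟨w, Finset.mem_univ _,
    Finset.sum_pos' (fun _ _ => mul_self_nonneg _) ⟨i, Finset.mem_univ _, mul_self_pos.2 hx⟩⟩

theorem B_co_pos (w : W) (i : I) : 0 < B cs h (co cs h w i) (co cs h w i) :=
  B_pos cs h (w := w) (i := i) (by rw [co_rt]; norm_num)

theorem two_B (x : Fm I) (w : W) (i : I) :
    2 * B cs h x (co cs h w i) = x (rt cs h w i) * B cs h (co cs h w i) (co cs h w i) := by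
  have h1 := B_ac cs h (w * cs.simple i * w⁻¹) x (co cs h w i)
  rw [ac_rf, ac_rf, co_rt, B_sub, B_smul, B_comm, B_sub, B_smul, B_comm cs h (co cs h w i) (_ - _), B_sub, B_smul,
    B_comm cs h (co cs h w i) x] at h1
  linarith

theorem co_one (i : I) : co cs h 1 i = pr A i := by rw [co, inv_one, ac_one]

omit [Fintype W] in
theorem rt_one (i : I) : rt cs h 1 i = sr i := by rw [rt, map_one, Module.End.one_apply]

theorem ext_sr {x : Fm I} (hx : ∀ i, x (sr i) = 0) : x = 0 := by
  refine AddMonoidHom.ext fun a => ?_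
  have e : a = ∑ i, a i • sr i := by
    funext k
    simp [sr, Finset.sum_apply, Pi.single_apply]
  rw [e, map_sum]
  exact Finset.sum_eq_zero fun i _ => by rw [map_zsmul, hx, smul_zero]

/-- a minuscule element of the coroot lattice vanishes -/
theorem wt_eq_zero (β : I → ℤ) (hβ : ∀ w i, |wt A β (rt cs h w i)| ≤ 1) : wt A β = 0 := by
  induction hn : ∑ i, (β i).natAbs using Nat.strong_induction_on generalizing β with
  | _ n ih =>
  by_contra h0
  obtain ⟨i₀, hi₀⟩ : ∃ i, wt A β (sr i) ≠ 0 := by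
    by_contra hcon
    push Not at hcon
    exact h0 (ext_sr hcon)
  have h1 : 0 < B cs h (wt A β) (wt A β) := B_pos cs h (w := 1) (i := i₀) (by rwa [rt_one])
  have h2 : B cs h (wt A β) (wt A β) = ∑ i, β i * B cs h (pr A i) (wt A β) := by
    conv_lhs => rw [B]
    conv_lhs => enter [2, w, 2, j, 1]; rw [wt_def, AddMonoidHom.finsetSum_apply]
    simp only [B, AddMonoidHom.smul_apply, smul_eq_mul, Finset.sum_mul, Finset.mul_sum, mul_assoc]
    rw [Finset.sum_comm]
    rw [Finset.sum_congr rfl fun j _ => Finset.sum_comm, Finset.sum_comm]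
    exact Finset.sum_congr rfl fun i _ => Finset.sum_comm
  obtain ⟨i, -, hi⟩ := Finset.exists_lt_of_sum_lt (s := Finset.univ) (f := fun _ => (0 : ℤ))
    (g := fun i => β i * B cs h (pr A i) (wt A β)) (by rw [← h2]; simpa using h1)
  have h3 := two_B cs h (wt A β) 1 i
  have h4 := B_co_pos cs h 1 i
  have h6 := hβ 1 i
  rw [co_one, rt_one] at h3
  rw [co_one] at h4
  rw [rt_one, abs_le] at h6
  rw [B_comm] at hi
  set c := wt A β (sr i) with hc
  have h5 : 0 < β i * c := by
    by_contra h7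
    have h8 := mul_nonpos_of_nonpos_of_nonneg (not_lt.1 h7) h4.le
    have h9 := congrArg (β i * ·) h3
    nlinarith
  have h7 : ac cs h (cs.simple i) (wt A β) = wt A (β - c • sr i) := by
    rw [ac_simple, map_sub, map_zsmul, wt_sr]
  have h8 : (β i - c).natAbs < (β i).natAbs := by
    rcases lt_trichotomy c 0 with h8 | h8 | h8
    · have : β i < 0 := by nlinarith
      omega
    · rw [h8] at h5; omega
    · have : 0 < β i := by nlinarith
      omega
  have h9 : wt A (β - c • sr i) = 0 := by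
    refine ih _ ?_ _ (fun w j => ?_) rfl
    · rw [← hn]
      refine Finset.sum_lt_sum (fun j _ => ?_) ⟨i, Finset.mem_univ _, ?_⟩
      · by_cases hj : j = i
        · subst hj
          simpa [sr] using h8.le
        · simp [sr, Pi.single_eq_of_ne hj]
      · simpa [sr] using h8
    · rw [← h7, ac_apply, ← rep_mul_apply]
      exact hβ _ j
  apply h0
  rw [← ac_one cs h (wt A β), ← cs.simple_mul_simple_self i, ac_mul, h7, h9]
  rfl

/-- two forms can be aligned -/
theorem exists_align (H : Subgroup W) (l l' : Fm I) : ∃ u ∈ H, ∀ w i, w * cs.simple i * w⁻¹ ∈ H →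
    0 ≤ l (rep cs h u (rt cs h w i)) * l' (rt cs h w i) := by
  obtain ⟨u, hu⟩ := Finite.exists_max fun u : H => B cs h (ac cs h u l) l'
  refine ⟨u, u.2, fun w i hH => ?_⟩
  have h1 := hu (u * ⟨_, hH⟩)
  simp only [Subgroup.coe_mul] at h1
  rw [ac_mul, ac_rf, B_sub, B_smul, ac_apply, B_comm cs h (co cs h w i)] at h1
  have h3 := two_B cs h l' w i
  have h4 := B_co_pos cs h w i
  by_contra h5
  have h6 := mul_neg_of_neg_of_pos (not_le.1 h5) h4
  rw [mul_assoc, ← h3] at h6
  linarith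

/-- the height -/
def hgt (I : Type*) [Fintype I] : Fm I := AddMonoidHom.mk' (fun a => ∑ i, a i) fun a b => by
  simp only [Pi.add_apply, Finset.sum_add_distrib]

omit [Fintype W] in
theorem hgt_pos {a : I → ℤ} (ha : IsRoot cs h a) (h0 : 0 ≤ a) : 0 < hgt I a := by
  have h1 : ∃ i ∈ Finset.univ, 0 < a i := by
    by_contra hcon
    push Not at hcon
    exact ha.ne_zero (funext fun i => le_antisymm (hcon i (Finset.mem_univ i)) (h0 i))
  exact Finset.sum_pos' (fun i _ => h0 i) h1

omit [Fintype W] in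
theorem hgt_neg {a : I → ℤ} (ha : IsRoot cs h a) (h0 : ¬ 0 ≤ a) : hgt I a < 0 := by
  have := hgt_pos cs h ha.neg (ha.not_nonneg_iff_neg.1 h0)
  rw [map_neg] at this
  omega

theorem eq_one_of_regular {x : Fm I} (hx : ∀ w i, x (rt cs h w i) ≠ 0) {u : W} (hu : ac cs h u x = x) : u = 1 := by
  obtain ⟨v, -, hv⟩ := exists_align cs h ⊤ x (hgt I)
  have h1 : v⁻¹ * u * v = 1 := by
    refine eq_one_of_nonneg cs h _ fun i => ?_
    by_contra h2
    have h3 := hgt_neg cs h ⟨v⁻¹ * u * v, i, rfl⟩ h2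
    have h4 := hv (v⁻¹ * u * v) i (Subgroup.mem_top _)
    have h5 := hv 1 i (Subgroup.mem_top _)
    have h6 := hgt_pos cs h (isRoot_sr cs h i) (sr_nonneg i)
    have h7 := hx v i
    rw [rt_one] at h5
    rw [← rep_mul_apply, ← mul_assoc, mul_inv_cancel_left, rep_mul_apply, ← ac_apply, hu] at h4
    have h8 : 0 < x (rt cs h v i) := lt_of_le_of_ne (nonneg_of_mul_nonneg_left h5 h6) h7.symm
    exact absurd h4 (not_le.2 (mul_neg_of_pos_of_neg h8 h3))
  have : u = v * (v⁻¹ * u * v) * v⁻¹ := by group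
  rw [this, h1]
  group

/-- the affine Weyl group acts freely on the generic points -/
theorem eq_one_of_generic {η : Fm I} {m : ℤ} (hm : 0 < m) (hη : ∀ w i, ¬ m ∣ η (rt cs h w i)) {u : W}
    {β : I → ℤ} (hu : ac cs h u η = η + m • wt A β) : u = 1 := by
  let E : (I → ℤ) → ℤ := fun μ => B cs h (η - m • wt A μ) (η - m • wt A μ)
  obtain ⟨μ, hμ⟩ : ∃ μ : I → ℤ, ∀ μ', E μ ≤ E μ' := by
    refine ⟨Function.argmin fun μ => (E μ).toNat, fun μ' => ?_⟩
    have h1 := Function.argmin_le (fun μ => (E μ).toNat) μ'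
    have h2 : 0 ≤ E μ' := B_nonneg cs h _
    have h3 : 0 ≤ E (Function.argmin fun μ => (E μ).toNat) := B_nonneg cs h _
    omega
  set η₁ := η - m • wt A μ with hη₁
  have g1 : ∀ w i, ¬ m ∣ η₁ (rt cs h w i) := fun w i hd => hη w i (by
    rw [hη₁, AddMonoidHom.sub_apply, AddMonoidHom.smul_apply, smul_eq_mul] at hd
    exact (dvd_sub_left (Dvd.intro _ rfl)).1 hd)
  have g2 : ∀ w i, η₁ (rt cs h w i) < m := fun w i => by
    obtain ⟨γ, hγ⟩ := exists_co cs h w i
    have h1 := hμ (μ + γ)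
    have h2 : η - m • wt A (μ + γ) = η₁ - m • co cs h w i := by rw [map_add, smul_add, ← sub_sub, hγ]
    simp only [E] at h1
    rw [h2, ← hη₁, B_sq cs h η₁] at h1
    have h3 := two_B cs h η₁ w i
    have h4 := B_co_pos cs h w i
    have h5 : η₁ (rt cs h w i) ≤ m := by
      by_contra h5
      have := mul_pos (mul_pos hm h4) (sub_pos.2 (not_le.1 h5))
      nlinarith
    exact lt_of_le_of_ne h5 fun e => g1 w i (e ▸ dvd_rfl)
  have g3 : ∀ w i, -m < η₁ (rt cs h w i) := fun w i => by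
    have := g2 (w * cs.simple i) i
    rw [rt, rep_mul_apply, rep_simple_sr, map_neg, map_neg] at this
    change -η₁ (rt cs h w i) < m at this
    omega
  obtain ⟨γ, hγ⟩ := exists_wt' cs h μ u
  have g4 : ac cs h u η₁ = η₁ + m • wt A (β + μ - γ) := by
    rw [hη₁, ac_sub, hu, ac_smul, hγ, map_sub, map_add, smul_sub, smul_add]
    abel
  have g5 : wt A (β + μ - γ) = 0 := by
    refine wt_eq_zero cs h _ fun w i => ?_
    have h1 := DFunLike.congr_fun g4 (rt cs h w i)
    rw [ac_apply, ← rep_mul_apply, AddMonoidHom.add_apply, AddMonoidHom.smul_apply, smul_eq_mul] at h1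
    have h2 := g2 w i
    have h3 := g3 w i
    have h4 := g2 (u * w) i
    have h5 := g3 (u * w) i
    rw [abs_le]
    constructor <;> by_contra h6 <;> push Not at h6 <;> nlinarith
  rw [g5, smul_zero, add_zero] at g4
  exact eq_one_of_regular cs h (fun w i e => g1 w i (e ▸ dvd_zero _)) g4

omit [Fintype W] in
/-- **Steinberg** -/
theorem mem_of_wt [Finite W] {x : Fm I} {m : ℤ} (hm : 0 < m) {H : Subgroup W}
    (hH : ∀ w i, m ∣ x (rt cs h w i) → w * cs.simple i * w⁻¹ ∈ H) {g : W} {β : I → ℤ}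
    (hg : ac cs h g x = x + m • wt A β) : g ∈ H := by
  classical
  have := Fintype.ofFinite W
  let S : Subgroup W :=
    { carrier := {v | ∃ γ, ac cs h v x = x + m • wt A γ}
      one_mem' := ⟨0, by rw [ac_one, map_zero, smul_zero, add_zero]⟩
      mul_mem' := by
        rintro a b ⟨γ, ha⟩ ⟨δ, hb⟩
        obtain ⟨ε, hε⟩ := exists_wt' cs h γ b
        exact ⟨δ + ε, by rw [ac_mul, ha, ac_add, hb, ac_smul, hε, map_add, smul_add, add_assoc]⟩
      inv_mem' := by
        rintro a ⟨γ, ha⟩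
        obtain ⟨ε, hε⟩ := exists_wt' cs h γ a⁻¹
        have h1 := congrArg (ac cs h a⁻¹) ha
        rw [← ac_mul, mul_inv_cancel, ac_one, ac_add, ac_smul, hε] at h1
        exact ⟨-ε, by rw [map_neg, smul_neg, ← sub_eq_add_neg, eq_sub_iff_add_eq, ← h1]⟩ }
  have hS : ∀ v ∈ S, ∀ a, m ∣ x (rep cs h v a) ↔ m ∣ x a := by
    rintro v ⟨γ, hv⟩ a
    rw [← ac_apply, hv, AddMonoidHom.add_apply, AddMonoidHom.smul_apply, smul_eq_mul]
    exact dvd_add_left (Dvd.intro _ rfl)
  obtain ⟨u, hu, hal⟩ := exists_align cs h (H ⊓ S) (ac cs h g (hgt I)) (hgt I)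
  have hgu : g * u ∈ S := mul_mem ⟨β, hg⟩ hu.2
  let K : Subgroup W :=
    { carrier := {v | ∀ a, IsRoot cs h a → (m ∣ x (rep cs h v a) ∧ 0 ≤ rep cs h v a ↔ m ∣ x a ∧ 0 ≤ a)}
      one_mem' := fun a _ => by rw [map_one, Module.End.one_apply]
      mul_mem' := fun {v w} hv hw a ha => by rw [rep_mul_apply, hv _ (ha.act w), hw a ha]
      inv_mem' := fun {v} hv a ha => by rw [← hv _ (ha.act v⁻¹), rep_apply_inv] }
  have hK : g * u ∈ K := by
    rintro a ⟨w, i, rfl⟩
    rw [hS _ hgu, and_congr_right_iff]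
    intro hd
    obtain ⟨γ, hγ⟩ := exists_co cs h w i
    obtain ⟨c, hc⟩ := hd
    have h1 := hal w i ⟨hH w i ⟨c, hc⟩, ⟨-(c • γ), by
      rw [ac_rf, hc, hγ, map_neg, map_zsmul, smul_neg, mul_smul, sub_eq_add_neg]⟩⟩
    rw [ac_apply, ← rep_mul_apply] at h1
    have r1 : IsRoot cs h (rt cs h w i) := ⟨w, i, rfl⟩
    have r2 := r1.act (g * u)
    constructor
    · intro h2
      by_contra h3
      exact absurd h1 (not_le.2 (mul_neg_of_pos_of_neg (hgt_pos cs h r2 h2) (hgt_neg cs h r1 h3)))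
    · intro h2
      by_contra h3
      exact absurd h1 (not_le.2 (mul_neg_of_neg_of_pos (hgt_neg cs h r2 h3) (hgt_pos cs h r1 h2)))
  let l : Fm I := ∑ v : K, ac cs h v (hgt I)
  have hl : ∀ a, l a = ∑ v : K, hgt I (rep cs h v a) := fun a => AddMonoidHom.finsetSum_apply _ _ _
  have hl1 : ac cs h (g * u) l = l := by
    refine AddMonoidHom.ext fun a => ?_
    rw [ac_apply, hl, hl]
    exact Fintype.sum_equiv (Equiv.mulRight ⟨g * u, hK⟩) _ _ fun v => by
      rw [Equiv.coe_mulRight, Subgroup.coe_mul, rep_mul_apply cs h v]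
  have hl2 : ∀ a, IsRoot cs h a → m ∣ x a → 0 ≤ a → 0 < l a := fun a ha hd h0 => by
    rw [hl]
    exact Finset.sum_pos (fun v _ => hgt_pos cs h (ha.act _) ((v.2 a ha).2 ⟨hd, h0⟩).2) ⟨1, Finset.mem_univ _⟩
  have hl3 : ∀ a, IsRoot cs h a → m ∣ x a → l a ≠ 0 := fun a ha hd => by
    by_cases h0 : 0 ≤ a
    · exact (hl2 a ha hd h0).ne'
    · have := hl2 _ ha.neg (by rw [map_neg]; exact hd.neg_right) (ha.not_nonneg_iff_neg.1 h0)
      rw [map_neg] at this
      omega
  let N : ℤ := 1 + ∑ q : W × I, |l (rt cs h q.1 q.2)|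
  have hN : ∀ w i, |l (rt cs h w i)| < N := fun w i => by
    have := Finset.single_le_sum (f := fun q : W × I => |l (rt cs h q.1 q.2)|) (fun _ _ => abs_nonneg _)
      (Finset.mem_univ (w, i))
    simp only at this
    omega
  have hN0 : 0 < N := by
    have : 0 ≤ ∑ q : W × I, |l (rt cs h q.1 q.2)| := Finset.sum_nonneg fun _ _ => abs_nonneg _
    omega
  obtain ⟨γ, hγ⟩ := hgu
  have h1 : g * u = 1 := by
    refine eq_one_of_generic cs h (η := N • x + l) (mul_pos hN0 hm) (fun w i hd => ?_) (β := γ) ?_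
    · rw [AddMonoidHom.add_apply, AddMonoidHom.smul_apply, smul_eq_mul] at hd
      have h2 : N ∣ l (rt cs h w i) := (dvd_add_right (Dvd.intro _ rfl)).1 ((Dvd.intro _ rfl).trans hd)
      have h3 := Int.eq_zero_of_abs_lt_dvd h2 (hN w i)
      rw [h3, add_zero] at hd
      exact hl3 _ ⟨w, i, rfl⟩ ((mul_dvd_mul_iff_left hN0.ne').1 hd) h3
    · rw [ac_add, ac_smul, hγ, hl1, smul_add, smul_smul]
      abel
  rw [eq_inv_of_mul_eq_one_left h1]
  exact inv_mem hu.1

omit [Fintype W] in
theorem ac_pow {x y : Fm I} {m : ℤ} {g : W} (hg : ac cs h g x = x + m • y) (k : ℕ) :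
    ∃ γ, ac cs h (g ^ k) x = x + m • ((k : ℤ) • y + wt A γ) := by
  induction k with
  | zero => exact ⟨0, by simp [ac_one]⟩
  | succ k ih =>
    obtain ⟨γ, hγ⟩ := ih
    obtain ⟨δ, hδ⟩ := exists_wt cs h y g
    obtain ⟨ε, hε⟩ := exists_wt' cs h γ g
    refine ⟨(k : ℤ) • δ + ε, ?_⟩
    rw [pow_succ, ac_mul, hγ, ac_add, hg, ac_smul, ac_add, ac_smul, hδ, hε, map_add, map_zsmul]
    push_cast
    module

omit [Fintype W] in
theorem exists_div {x : Fm I} {m : ℤ} (hm : 0 < m) {g : W} (hg : ∀ a, m ∣ x (rep cs h g a) - x a) :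
    ∃ y : Fm I, ac cs h g x = x + m • y := by
  choose y hy using hg
  refine ⟨AddMonoidHom.mk' y fun a b => mul_left_cancel₀ hm.ne' ?_, ?_⟩
  · rw [mul_add, ← hy, ← hy, ← hy, map_add, map_add, map_add]
    ring
  · refine AddMonoidHom.ext fun a => ?_
    rw [ac_apply, AddMonoidHom.add_apply, AddMonoidHom.smul_apply, smul_eq_mul]
    exact eq_add_of_sub_eq' (hy a)

omit [Fintype W] in
/-- the exponent of the weight lattice modulo the coroot lattice -/
theorem pow_mem [Finite W] {x : Fm I} {m : ℤ} (hm : 0 < m) {H : Subgroup W}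
    (hH : ∀ w i, m ∣ x (rt cs h w i) → w * cs.simple i * w⁻¹ ∈ H) {g : W}
    (hg : ∀ a, m ∣ x (rep cs h g a) - x a) {d : ℕ} (hd : ∀ y : Fm I, ∃ β, (d : ℤ) • y = wt A β) : g ^ d ∈ H := by
  obtain ⟨y, hy⟩ := exists_div cs h hm hg
  obtain ⟨γ, hγ⟩ := ac_pow cs h hy d
  obtain ⟨β, hβ⟩ := hd y
  exact mem_of_wt cs h hm hH (β := β + γ) (by rw [hγ, hβ, map_add])

omit [Fintype W] in
theorem pow_mem_self [Finite W] {x : Fm I} {m : ℕ} (hm : 0 < m) {H : Subgroup W}
    (hH : ∀ w i, (m : ℤ) ∣ x (rt cs h w i) → w * cs.simple i * w⁻¹ ∈ H) {g : W}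
    (hg : ∀ a, (m : ℤ) ∣ x (rep cs h g a) - x a) : g ^ m ∈ H := by
  have hm' : (0 : ℤ) < m := by exact_mod_cast hm
  obtain ⟨y, hy⟩ := exists_div cs h hm' hg
  obtain ⟨γ, hγ⟩ := ac_pow cs h hy m
  obtain ⟨β, hβ⟩ := exists_wt cs h x g
  exact mem_of_wt cs h hm' hH (β := β + γ) (by rw [hγ, map_add, ← add_left_cancel (hy.symm.trans hβ)])

end Cfsg.Agent.ODD.PS.St
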