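import Cfsg.Agent.ODD.PS.Main
import Cfsg.Agent.ODD.PS.Stein
import Cfsg.Agent.ODD.Defs

/-!
# ODD / GAL, odd `q`: coroot data (helper6)

`Cor R h' m g` : elements `g i ∈ T` on which the `n i` act by the Cartan matrix `A'` modulo `m` (`m = 0`: exactly).

* `Cor.ev_rep` : the action of `W` on the characters of exponent `m`;
* `Cor.pow_mem`, `Cor.pow_mem_self` : `w ^ d ∈ Rg R lam` for `w ∈ Wst R lam`;
* `fix_two` : `Two τ`, `τ` fixes `lam`, squares in `Rg` : `τ` fixes `χ`;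
* `oddRat_of_cor`, `oddRat_of_neg`.
-/

set_option autoImplicit false
set_option linter.unusedSectionVars false

open Cfsg

namespace Cfsg.Agent.ODD.PS

open CoxeterSystem Cfsg.Agent.ChevalleyStructure.CoxeterGeom Cfsg.Agent.Tits.Roots Cfsg.Agent.Nodes.Reps
  Cfsg.Agent.Nodes.BNOf Cfsg.Agent.Nodes.Bruhat Cfsg.Agent.H684.OQ Cfsg.Agent.H381.OQ Cfsg.Agent.ODD.Red

variable {I W Y : Type} [Fintype I] [DecidableEq I] [Group W] [Finite W] [Group Y] [Finite Y]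
  {M : CoxeterMatrix I} {cs : CoxeterSystem M W} {A : I → I → ℤ} {h : IsCartan M A} {p : ℕ} {T : Subgroup Y}
  {n : I → Y} {X : (I → ℤ) → Subgroup Y} (R : RGD cs h p T n X)

include R

/-- **coroot data modulo `m`** -/
structure Cor {A' : I → I → ℤ} (h' : IsCartan M A') (m : ℕ) (g : I → Y) : Prop where
  comm : ∀ a ∈ T, ∀ b ∈ T, a * b = b * a
  mem : ∀ i, g i ∈ T
  conj : ∀ i j, ∃ c : ℤ, n i * g j * (n i)⁻¹ = g j * g i ^ c ∧ (m : ℤ) ∣ c + A' i j
  node : ∀ i (mu : ↥T →* ℂˣ), (∀ t, mu t ^ m = 1) → mu ⟨g i, mem i⟩ = 1 → zet R i mu ≠ 0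

/-- the usual form of `node` -/
theorem node_of_zpowers {i : I} {g : Y} (hg : g ∈ T) (h1 : ∀ x ∈ X (sr i), x ≠ 1 → tx R i x ∈ Subgroup.zpowers g)
    {mu : ↥T →* ℂˣ} (h2 : mu ⟨g, hg⟩ = 1) : zet R i mu ≠ 0 := by
  refine zet_ne_of_one R fun x hx hx1 => ?_
  obtain ⟨k, hk⟩ := h1 x hx hx1
  have : (⟨tx R i x, tx_mem R i x⟩ : ↥T) = ⟨g, hg⟩ ^ k := Subtype.ext hk.symm
  rw [this, map_zpow, h2, one_zpow]

omit R in
theorem ext_sr' {B : Type*} [AddCommGroup B] {x y : (I → ℤ) →+ B} (hx : ∀ i, x (sr i) = y (sr i)) : x = y := by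
  refine AddMonoidHom.ext fun a => ?_
  have e : a = ∑ i, a i • sr i := by
    funext k
    simp [sr, Finset.sum_apply, Pi.single_apply]
  rw [e, map_sum, map_sum]
  exact Finset.sum_congr rfl fun i _ => by rw [map_zsmul, map_zsmul, hx]

omit R in
/-- the additive map with given values on the simple roots -/
def lc {B : Type*} [AddCommGroup B] (v : I → B) : (I → ℤ) →+ B :=
  AddMonoidHom.mk' (fun y => ∑ i, y i • v i) fun a b => by
    simp only [Pi.add_apply, add_smul, Finset.sum_add_distrib]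

omit R in
theorem lc_sr {B : Type*} [AddCommGroup B] (v : I → B) (i : I) : lc v (sr i) = v i := by
  show ∑ j, sr i j • v j = v i
  rw [Finset.sum_eq_single i, sr_self, one_smul]
  · intro j _ hj
    rw [sr_ne hj, zero_smul]
  · intro hi
    exact absurd (Finset.mem_univ i) hi

namespace Cor

variable {R} {A' : I → I → ℤ} {h' : IsCartan M A'} {m : ℕ} {g : I → Y} (C : Cor R h' m g)

include C

theorem mono {m' : ℕ} (hm : m' ∣ m) : Cor R h' m' g where
  comm := C.comm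
  mem := C.mem
  conj i j := by
    obtain ⟨c, h1, h2⟩ := C.conj i j
    exact ⟨c, h1, (Int.natCast_dvd_natCast.2 hm).trans h2⟩
  node i mu h1 h2 := by
    obtain ⟨k, rfl⟩ := hm
    exact C.node i mu (fun t => by rw [pow_mul, h1, one_pow]) h2

/-- the values of `mu` on the coroot lattice -/
def ev (mu : ↥T →* ℂˣ) : (I → ℤ) →+ Additive ℂˣ := lc fun i => Additive.ofMul (mu ⟨g i, C.mem i⟩)

theorem ev_sr (mu : ↥T →* ℂˣ) (i : I) : C.ev mu (sr i) = Additive.ofMul (mu ⟨g i, C.mem i⟩) := lc_sr _ i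

theorem ev_simple {mu nu : ↥T →* ℂˣ} (hmu : ∀ t, mu t ^ m = 1) {i : I} (hC : Cj T mu nu (n i)) (y : I → ℤ) :
    C.ev nu y = C.ev mu (rep cs h' (cs.simple i) y) := by
  refine DFunLike.congr_fun (ext_sr' (x := C.ev nu) (y := (C.ev mu).comp (rep cs h' (cs.simple i)).toAddMonoidHom)
    fun j => ?_) y
  show _ = C.ev mu (rep cs h' (cs.simple i) (sr j))
  obtain ⟨c, h1, k, h2⟩ := C.conj i j
  have hni := rp_simple cs R.nsys i
  have e : (n i)⁻¹ * (n i * g j * (n i)⁻¹) * n i = g j := by group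
  have h3 := hC _ (conj_T R hni (C.mem j)) (by rw [e]; exact C.mem j)
  have h4 : (⟨n i * g j * (n i)⁻¹, conj_T R hni (C.mem j)⟩ : ↥T) = ⟨g j, C.mem j⟩ * ⟨g i, C.mem i⟩ ^ c :=
    Subtype.ext h1
  have h5 : nu ⟨g j, C.mem j⟩ = mu ⟨g j, C.mem j⟩ * mu ⟨g i, C.mem i⟩ ^ (-A' i j) := by
    have e2 : c = -A' i j + m * k := by linear_combination h2
    rw [h4, map_mul, map_zpow, e2, zpow_add, zpow_mul, zpow_natCast, hmu, one_zpow, mul_one] at h3
    rw [h3]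
    congr 2
    exact e.symm
  rw [rep_simple_eq, map_sub, map_zsmul, ← St.pr_apply, St.pr_sr, ev_sr, ev_sr, ev_sr, h5, ofMul_mul, ofMul_zpow,
    neg_smul, sub_eq_add_neg]

/-- **the action of `W` on the characters** -/
theorem ev_rep (w : W) : ∀ {k : Y} {mu nu : ↥T →* ℂˣ}, Rp cs R.nsys w k → (∀ t, mu t ^ m = 1) → Cj T mu nu k →
    ∀ y, C.ev nu y = C.ev mu (rep cs h' w y) := by
  induction w using cs.simple_induction_right with
  | one =>
    intro k mu nu hk _ hC y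
    have : mu = nu := by
      ext t
      rw [hC t t.2 (conj_T' R hk t.2)]
      congr 3
      show k⁻¹ * t * k = t
      rw [mul_assoc, C.comm _ t.2 _ hk.mem_of_one, inv_mul_cancel_left]
    rw [this, map_one, Module.End.one_apply]
  | mul_simple_right w i ih =>
    intro k mu nu hk hmu hC y
    have hni := rp_simple cs R.nsys i
    have hk' : Rp cs R.nsys w (k * (n i)⁻¹) := by
      have := hk.mul hni.inv
      rwa [mul_inv_cancel_right] at this
    have h1 : Cj T mu (cjl hni.mem_normalizer nu) (k * (n i)⁻¹) := fun t ht ht' => by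
      rw [hC t ht (conj_T' R hk ht), cjl_apply _ _ ht' (conj_T' R hni ht')]
      congr 2
      group
    have h2 : ∀ t, cjl hni.mem_normalizer nu t ^ m = 1 := fun t => by
      have e : (k * (n i)⁻¹)⁻¹ * (k * (n i)⁻¹ * t * (k * (n i)⁻¹)⁻¹) * (k * (n i)⁻¹) = t := by group
      have h5 := conj_T' R hk' (conj_T R hk' t.2)
      have h3 := h1 _ (conj_T R hk' t.2) h5
      have h4 : (⟨_, h5⟩ : ↥T) = t := Subtype.ext e
      rw [h4] at h3
      rw [← h3, hmu]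
    rw [rep_mul_apply, ← ih hk' hmu h1, C.ev_simple h2 ((cjl_eq_iff R hni).1 rfl)]

theorem ev_fix {lam : ↥T →* ℂˣ} (hl : ∀ t, lam t ^ m = 1) {w : W} (hw : w ∈ Wst R lam) (y : I → ℤ) :
    C.ev lam (rep cs h' w y) = C.ev lam y := by
  obtain ⟨k, hk, hC⟩ := hw
  exact (C.ev_rep w hk hl hC y).symm

/-- the reflections in the roots killed by `lam` are good -/
theorem refl_mem {lam : ↥T →* ℂˣ} (hl : ∀ t, lam t ^ m = 1) {w : W} {i : I}
    (h0 : C.ev lam (rep cs h' w (sr i)) = 0) : w * cs.simple i * w⁻¹ ∈ Rg R lam := by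
  obtain ⟨k, hk⟩ := exists_rp cs R.nsys w
  have h1 : Cj T lam (cjl hk.inv.mem_normalizer lam) k := fun t ht ht' => by
    rw [cjl_apply _ _ ht' (conj_T' R hk.inv ht')]
    congr 2
    group
  have h2 := C.ev_rep w hk hl h1 (sr i)
  rw [h0, ev_sr] at h2
  have h3 := mem_Rg R hk.inv (C.node i _ (fun t => hl _) h2)
  rwa [inv_inv] at h3

/-- an integral weight for `lam` -/
theorem exists_form (hm : 0 < m) {lam : ↥T →* ℂˣ} (hl : ∀ t, lam t ^ m = 1) :
    ∃ (x : St.Fm I) (ζ : ℂˣ), IsPrimitiveRoot ζ m ∧ (∀ y, C.ev lam y = Additive.ofMul (ζ ^ x y)) ∧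
      ∀ y, C.ev lam y = 0 ↔ (m : ℤ) ∣ x y := by
  have : NeZero m := ⟨hm.ne'⟩
  have hζ := (Complex.isPrimitiveRoot_exp m hm.ne').isUnit_unit hm.ne'
  set ζ := ((Complex.isPrimitiveRoot_exp m hm.ne').isUnit hm.ne').unit
  have h1 : ∀ i, ∃ k : ℤ, lam ⟨g i, C.mem i⟩ = ζ ^ k := fun i => by
    obtain ⟨k, -, hk⟩ := hζ.eq_pow_of_mem_rootsOfUnity ((mem_rootsOfUnity m _).2 (hl ⟨g i, C.mem i⟩))
    exact ⟨k, by rw [zpow_natCast, hk]⟩
  choose v hv using h1
  have h2 : ∀ y, C.ev lam y = Additive.ofMul (ζ ^ lc v y) := fun y => by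
    have := DFunLike.congr_fun (ext_sr' (x := C.ev lam)
      (y := (zmultiplesHom _ (Additive.ofMul ζ)).comp (lc v)) fun i => by
        rw [ev_sr, AddMonoidHom.comp_apply, lc_sr, hv, ofMul_zpow]; rfl) y
    rw [this, ofMul_zpow]
    rfl
  refine ⟨lc v, ζ, hζ, h2, fun y => ?_⟩
  rw [h2, ofMul_eq_zero, hζ.zpow_eq_one_iff_dvd]

theorem pow_mem (hm : 0 < m) {lam : ↥T →* ℂˣ} (hl : ∀ t, lam t ^ m = 1) {w : W} (hw : w ∈ Wst R lam) {d : ℕ}
    (hd : ∀ y : St.Fm I, ∃ β, (d : ℤ) • y = St.wt A' β) : w ^ d ∈ Rg R lam := by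
  obtain ⟨x, -, -, -, hx⟩ := C.exists_form hm hl
  refine St.pow_mem cs h' (x := x) (m := m) (by exact_mod_cast hm) (fun v i hv => C.refl_mem hl ((hx _).2 hv))
    (fun a => ?_) hd
  rw [← map_sub, ← hx, map_sub, C.ev_fix hl hw, sub_self]

theorem pow_mem_self (hm : 0 < m) {lam : ↥T →* ℂˣ} (hl : ∀ t, lam t ^ m = 1) {w : W} (hw : w ∈ Wst R lam) :
    w ^ m ∈ Rg R lam := by
  obtain ⟨x, -, -, -, hx⟩ := C.exists_form hm hl
  refine St.pow_mem_self cs h' (x := x) hm (fun v i hv => C.refl_mem hl ((hx _).2 hv)) fun a => ?_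
  rw [← map_sub, ← hx, map_sub, C.ev_fix hl hw, sub_self]

/-- an element of the stabiliser which inverts a coroot -/
theorem sq_of_neg {lam : ↥T →* ℂˣ} (hl : ∀ t, lam t ^ m = 1) {w : W} (hw : w ∈ Wst R lam) {i : I}
    (hi : rep cs h' w (sr i) = -sr i) : lam ⟨g i, C.mem i⟩ ^ 2 = 1 := by
  have h1 := C.ev_fix hl hw (sr i)
  rw [hi, map_neg, ev_sr] at h1
  have h2 : (lam ⟨g i, C.mem i⟩)⁻¹ = lam ⟨g i, C.mem i⟩ := h1
  rw [pow_two]
  nth_rewrite 1 [← h2]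
  exact inv_mul_cancel _

/-- a character is determined by its values at the `g i` if they generate `T` -/
theorem pow_of_gen (hgen : T ≤ Subgroup.closure (Set.range g)) {lam : ↥T →* ℂˣ} {k : ℕ}
    (hl : ∀ i, lam ⟨g i, C.mem i⟩ ^ k = 1) (t : ↥T) : lam t ^ k = 1 := by
  have key : ∀ y ∈ Subgroup.closure (Set.range g), ∃ hy : y ∈ T, lam ⟨y, hy⟩ ^ k = 1 := by
    intro y hy
    induction hy using Subgroup.closure_induction with
    | mem x hx =>
      obtain ⟨i, rfl⟩ := hx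
      exact ⟨C.mem i, hl i⟩
    | one => exact ⟨one_mem _, by rw [show (⟨1, one_mem T⟩ : ↥T) = 1 from rfl, map_one, one_pow]⟩
    | mul a b _ _ ha hb =>
      obtain ⟨h1, h2⟩ := ha
      obtain ⟨h3, h4⟩ := hb
      refine ⟨mul_mem h1 h3, ?_⟩
      rw [show (⟨a * b, mul_mem h1 h3⟩ : ↥T) = ⟨a, h1⟩ * ⟨b, h3⟩ from rfl, map_mul, mul_pow, h2, h4, mul_one]
    | inv a _ ha =>
      obtain ⟨h1, h2⟩ := ha
      refine ⟨inv_mem h1, ?_⟩
      rw [show (⟨a⁻¹, inv_mem h1⟩ : ↥T) = (⟨a, h1⟩ : ↥T)⁻¹ from rfl, map_inv, inv_pow, h2, inv_one]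
  exact (key t (hgen t.2)).2

end Cor

/-- a nondegenerate character of `U` -/
theorem exists_nondeg (hp : p.Prime) : ∃ psi : ↥(UU cs h X) →* ℂˣ, Nondeg psi := by
  have : Fact p.Prime := ⟨hp⟩
  rcases isEmpty_or_nonempty I with hI | ⟨⟨i⟩⟩
  · exact ⟨1, fun i => hI.elim i⟩
  · obtain ⟨u, hu, hu1⟩ := exists_ne_one R i
    have : Nontrivial ↥(X (sr i)) := ⟨⟨⟨u, hu⟩, 1, fun h2 => hu1 (congrArg Subtype.val h2)⟩⟩
    obtain ⟨f, hf⟩ := exists_lin (R.pgrp' (isRoot_sr cs h i))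
    obtain ⟨psi, h1, -⟩ := exists_psi R i f hf
    exact ⟨psi, h1⟩

/-- **`2`-rationality** -/
theorem fix_two (hM : AH.Main) (hp : p.Prime) (hp2 : p ≠ 2) (hG : GG cs h T X = ⊤)
    (hc : ∀ a ∈ T, ∀ b ∈ T, a * b = b * a) {τ : ℂ ≃+* ℂ} (hτ : Two τ) {lam : ↥T →* ℂˣ}
    (hl : ∀ t, τ (lam t : ℂˣ) = (lam t : ℂˣ)) (hsq : ∀ w ∈ Wst R lam, w * w ∈ Rg R lam)
    {χ : Y → ℂ} (hχ : IsIrrCharacter Y χ) (hodd : ∃ m : ℕ, Odd m ∧ mB R lam χ = m) : Fix τ χ := by
  obtain ⟨psi, hpsi⟩ := exists_nondeg R hp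
  intro y
  refine (fix_of_mB R hM hG hc (St.five cs h) (aut_refl R hl) hsq (Or.inr ⟨psi, hpsi, fun u hu => ?_⟩) hχ hodd y).symm
  refine (hτ _ _ (odd_U R hp hp2) ?_).symm
  rw [← Units.val_pow_eq_pow_val, ← map_pow, pow_card_eq_one', map_one, Units.val_one]

/-- unipotent principal series: odd multiplicity gives rationality -/
theorem fix_one (hM : AH.Main) (hG : GG cs h T X = ⊤) (hc : ∀ a ∈ T, ∀ b ∈ T, a * b = b * a) (σ : ℂ ≃+* ℂ)
    {χ : Y → ℂ} (hχ : IsIrrCharacter Y χ) (hodd : ∃ m : ℕ, Odd m ∧ mB R 1 χ = m) : Fix σ χ := by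
  have h1 : ∀ w : W, w ∈ Rg R 1 := fun w => by
    induction w using cs.simple_induction_right with
    | one => exact one_mem _
    | mul_simple_right w i ih =>
      have h2 := mem_Rg R (lam := 1) (rp_one (cs := cs) (hN := R.nsys)) (i := i) (zet_ne_of_one R fun _ _ _ => rfl)
      rw [inv_one, one_mul, mul_one] at h2
      exact mul_mem ih h2
  intro y
  exact (fix_of_mB R hM hG hc (St.five cs h) (aut_refl R fun t => by simp) (fun w _ => h1 _) (Or.inl fun w _ => h1 w)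
    hχ hodd y).symm

omit R in
theorem fix_of_sq {τ : ℂ ≃+* ℂ} {z : ℂˣ} (hz : z ^ 2 = 1) : τ (z : ℂ) = z := by
  have h1 : (z : ℂ) ^ 2 = 1 := by rw [← Units.val_pow_eq_pow_val, hz, Units.val_one]
  rcases sq_eq_one_iff.1 h1 with h2 | h2
  · rw [h2, map_one]
  · rw [h2, map_neg, map_one]

/-- **`OddRat`**, if the characters with a stabiliser of odd index are quadratic -/
theorem oddRat_of_cor (hM : AH.Main) (hp : p.Prime) (hp2 : p ≠ 2) (hG : GG cs h T X = ⊤)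
    (hnf : H69.OQ.NoFix cs h T X) {A' : I → I → ℤ} {h' : IsCartan M A'} {g : I → Y} (C : Cor R h' 2 g)
    (hq : ∀ lam : ↥T →* ℂˣ, Odd (Wst R lam).index → ∀ t, lam t ^ 2 = 1) : OddRat Y := by
  intro θ hθ hodd τ hτ
  obtain ⟨lam, h1, h2⟩ := exists_lam R hG C.comm hnf hθ hodd
  refine fix_two R hM hp hp2 hG C.comm hτ (fun t => fix_of_sq (hq lam h2 t)) (fun w hw => ?_) hθ h1
  rw [← pow_two]
  exact C.pow_mem_self two_pos (hq lam h2) hw

/-- **`OddRat`**, if `-1 ∈ W` -/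
theorem oddRat_of_neg (hM : AH.Main) (hp : p.Prime) (hp2 : p ≠ 2) (hG : GG cs h T X = ⊤)
    (hnf : H69.OQ.NoFix cs h T X) {A' : I → I → ℤ} {h' : IsCartan M A'} {g : I → Y} (C : Cor R h' 0 g)
    (hgen : T ≤ Subgroup.closure (Set.range g)) {w : W} (hw : ∀ i, rep cs h' w (sr i) = -sr i) : OddRat Y := by
  have h1 : ∀ y, rep cs h' w y = -y := fun y =>
    DFunLike.congr_fun (ext_sr' (x := (rep cs h' w).toAddMonoidHom) (y := -AddMonoidHom.id _) hw) y
  refine oddRat_of_cor R hM hp hp2 hG hnf (C.mono (dvd_zero 2)) fun lam hl => C.pow_of_gen hgen fun i => ?_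
  refine C.sq_of_neg (fun t => pow_zero _) (mem_of_center hl (fun x => ?_) ?_) (hw i)
  · refine rep_injective cs h' (LinearMap.ext fun y => ?_)
    rw [rep_mul_apply, rep_mul_apply, h1, h1, map_neg]
  · refine rep_injective cs h' (LinearMap.ext fun y => ?_)
    rw [rep_mul_apply, h1, h1, neg_neg, map_one, Module.End.one_apply]

end Cfsg.Agent.ODD.PS
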