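import Cfsg.Agent.ODD.PS.Cor
import Cfsg.Agent.ODD.PS.SL2
import Cfsg.Agent.ODD.Lev.Defs
import Cfsg.Agent.Nodes.SubComb
import Cfsg.Agent.Nodes.TypeC
import Cfsg.Agent.Tits.C3Roots
import Cfsg.Agent.Nodes.WittAll
import Cfsg.Agent.Nodes.WittU
import Cfsg.Agent.TitsThree.KInstSp

/-!
# ODD / GAL: `PSp_{2n}(q)`, `q ≡ 3 mod 4`: the interface (helper6)

The characters of odd degree lie in the principal series or (`n` odd) in the series of `ψ ⊗ ν`, where `ψ` is a cuspidal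
character of degree `(q - 1) / 2` of the group `SL₂(q)` of the last node.

* `Nd R l Φ` : the node `l` is given by `Φ : SL₂(F) → Y`;
* `Sb` : the roots orthogonal to `α_l` (pure combinatorics), statement `KS` for type `C`;
* `cen`, `eph`, `fc`, `Cusp` : the idempotent of rank one, statement `QS`;
* `Sp R Φ gg` : the data of the symplectic group, statement `MS`; `Par` : the parity, statement `ParS`.
-/

set_option autoImplicit false
set_option linter.unusedSectionVars false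

open Cfsg

namespace Cfsg.Agent.ODD.PS.C3

open CoxeterSystem Cfsg.Agent.ChevalleyStructure.CoxeterGeom Cfsg.Agent.Tits.Roots Cfsg.Agent.Tits.Core
  Cfsg.Agent.Nodes.Reps Cfsg.Agent.Nodes.BNOf Cfsg.Agent.Nodes.Bruhat Cfsg.Agent.Nodes.StabComb
  Cfsg.Agent.Nodes.SubComb Cfsg.Agent.H684.OQ Cfsg.Agent.H670

/-- `SL₂(F)` -/
abbrev S2 (F : Type) [Field F] : Type := Matrix.SpecialLinearGroup (Fin 2) F

/-! ### the idempotent of rank one -/

section idem

variable {F : Type} [Field F] [Fintype F]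

/-- the central idempotent of the irreducible character `ψ` -/
noncomputable def cen {G : Type} [Group G] [Finite G] (ψ : G → ℂ) : Al G :=
  letI := Fintype.ofFinite G
  (ψ 1 * (Nat.card G : ℂ)⁻¹) • ∑ g : G, ψ g⁻¹ • dl g

/-- the idempotent of the character `φ` of the root group -/
noncomputable def eph (φ : Multiplicative F →* ℂˣ) : Al (S2 F) :=
  (Fintype.card F : ℂ)⁻¹ • ∑ r : F, (((φ (Multiplicative.ofAdd r))⁻¹ : ℂˣ) : ℂ) • dl (SL2.x r)

/-- `e_ψ e_φ` -/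
noncomputable def fc (ψ : S2 F → ℂ) (φ : Multiplicative F →* ℂˣ) : Al (S2 F) := cen ψ * eph φ

/-- a cuspidal idempotent of rank one -/
structure Cusp (f : Al (S2 F)) (φ : Multiplicative F →* ℂˣ) : Prop where
  idem : f * f = f
  left : eph φ * f = f
  one : ∀ s, ∃ c : ℂ, f * dl s * eph φ = c • f
  cusp : ∀ s, f * dl s * eph 1 = 0

/-- the map of the group algebras -/
noncomputable def mp {G Y : Type} [Group G] [Group Y] (Φ : G →* Y) : Al G →ₐ[ℂ] Al Y :=
  MonoidAlgebra.mapDomainAlgHom ℂ ℂ Φ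

theorem mp_dl {G Y : Type} [Group G] [Group Y] (Φ : G →* Y) (g : G) : mp Φ (dl g) = dl (Φ g) := by
  simp [mp, dl]

end idem

/-! ### the roots orthogonal to `α_l` -/

section comb

variable {I W J W' : Type} [Fintype I] [DecidableEq I] [Group W] {M : CoxeterMatrix I}
  [Fintype J] [DecidableEq J] [Group W'] {M' : CoxeterMatrix J}

/-- `β j = w j (α (i j))` is a base of the roots orthogonal to `α_l`; the nodes with `w j = 1` are the short ones;
`hT` is the Cartan matrix of the coroots. -/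
structure Sb (cs : CoxeterSystem M W) {A AT : I → I → ℤ} (h : IsCartan M A) (hT : IsCartan M AT) (l : I)
    (cs' : CoxeterSystem M' W') {A' : J → J → ℤ} (h' : IsCartan M' A') (β : J → I → ℤ) (w : J → W) (i : J → I) :
    Prop where
  sys : SubSys cs h A' β w i
  pos : ∀ j, 0 ≤ β j
  fix : ∀ j, rep cs h (rfl' cs (w j) (i j)) (sr l) = sr l
  stab : ∀ v, rep cs h v (sr l) = sr l → v ∈ (sys.phi cs' h').range
  par : ∀ j, ∃ K : Set I, l ∈ K ∧ rfl' cs (w j) (i j) ∈ WJ cs K ∧ ∀ k, β k ∈ RootsJ cs h K → k = j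
  inv : ∀ j γ, IsRoot cs h γ → 0 ≤ γ → rep cs h (rfl' cs (w j) (i j)) γ ≤ 0 →
    ∃ m c : ℤ, 0 < m ∧ m • γ = β j + c • sr l
  neg : ∃ v : W, (∀ a, rep cs h v a = -a) ∧ ∀ a, rep cs hT v a = -a
  sq : ∀ (x : St.Fm I) (v : W'), (∀ a, 2 ∣ x (rep cs hT (sys.phi cs' h' v) a) - x a) →
    v * v ∈ Subgroup.closure {r | ∃ (u : W') (j : J), w j = 1 ∧ r = u * cs'.simple j * u⁻¹ ∧
      2 ∣ x (rep cs hT (sys.phi cs' h' u) (sr (i j)))}

/-- the coroots of type `C` -/
theorem isCartanT (n : ℕ) : IsCartan (CoxeterMatrix.B n) fun i j => Nodes.TypeC.A n j i :=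
  Tits.C3Roots.cartan_transpose (Nodes.TypeC.isCartan n)

/-- `α_j` and `2 ε_{m-1} = 2 α_{m-1} + α_m` -/
def bC (m : ℕ) (j : Fin m) : Fin (m + 1) → ℤ :=
  if (j : ℕ) + 1 < m then sr j.castSucc else (2 : ℤ) • sr j.castSucc + sr (Fin.last m)

/-- `1` and `s_{m-1}` -/
def wC {m : ℕ} (cs : CoxeterSystem (CoxeterMatrix.B (m + 1)) W) (j : Fin m) : W :=
  if (j : ℕ) + 1 < m then 1 else cs.simple j.castSucc

/-- `j` and `m` -/
def iC (m : ℕ) (j : Fin m) : Fin (m + 1) := if (j : ℕ) + 1 < m then j.castSucc else Fin.last m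

/-- **(K)** -/
def KS : Prop :=
  ∀ (m : ℕ) (W W' : Type) [Group W] [Group W'] (cs : CoxeterSystem (CoxeterMatrix.B (m + 1)) W)
    (cs' : CoxeterSystem (CoxeterMatrix.B m) W'),
    Sb cs (Nodes.TypeC.isCartan (m + 1)) (isCartanT (m + 1)) (Fin.last m) cs' (Nodes.TypeC.isCartan m)
      (bC m) (wC cs) (iC m)

end comb

/-! ### the node `l` -/

section node

variable {I W Y : Type} [Fintype I] [DecidableEq I] [Group W] [Finite W] [Group Y] [Finite Y]
  {M : CoxeterMatrix I} {cs : CoxeterSystem M W} {A : I → I → ℤ} {h : IsCartan M A} {p : ℕ} {T : Subgroup Y}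
  {n : I → Y} {X : (I → ℤ) → Subgroup Y} {F : Type} [Field F] [Fintype F]

/-- the centraliser of the image of `Φ` -/
def CS (Φ : S2 F →* Y) : Subgroup Y := Subgroup.centralizer (Set.range Φ)

/-- the unipotent radical of the parabolic subgroup of the node `l` -/
abbrev VV (cs : CoxeterSystem M W) (h : IsCartan M A) (X : (I → ℤ) → Subgroup Y) (l : I) : Subgroup Y :=
  RGD.Sup X (RGD.PosNe cs h l)

/-- its idempotent -/
noncomputable def eV (cs : CoxeterSystem M W) (h : IsCartan M A) (X : (I → ℤ) → Subgroup Y) (l : I) : Al Y :=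
  av (P := VV cs h X l) 1

/-- the node `l` is given by `Φ` and `T = C_T(Φ) Φ(torus)` -/
structure Nd (R : RGD cs h p T n X) (l : I) (Φ : S2 F →* Y) : Prop where
  top : GG cs h T X = ⊤
  comm : ∀ a ∈ T, ∀ b ∈ T, a * b = b * a
  mem : ∀ u, u ∈ X (sr l) ↔ ∃ s, u = Φ (SL2.x s)
  inj : ∀ s, Φ (SL2.x s) = 1 → s = 0
  wel : Rp cs R.nsys (cs.simple l) (Φ SL2.wel)
  tor : ∀ u, Φ (SL2.tor u) ∈ T
  dec : ∀ t ∈ T, ∃ u, t * (Φ (SL2.tor u))⁻¹ ∈ CS Φ

end node

/-- **(Q)**: `V^{V_l}` has odd dimension: the fixed space of `U Φ(torus)` has odd dimension or a cuspidal character of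
odd degree of `SL₂(F)` has odd multiplicity. -/
def QS : Prop :=
  ∀ (I W Y : Type) [Fintype I] [DecidableEq I] [Group W] [Finite W] [Group Y] [Finite Y]
    (M : CoxeterMatrix I) (cs : CoxeterSystem M W) (A : I → I → ℤ) (h : IsCartan M A) (p : ℕ) (T : Subgroup Y)
    (n : I → Y) (X : (I → ℤ) → Subgroup Y) (R : RGD cs h p T n X) (F : Type) [Field F] [Fintype F] (l : I)
    (Φ : S2 F →* Y), Nd R l Φ → Fintype.card F % 4 = 3 → ∀ χ : Y → ℂ, IsCharacter Y χ →
    (∃ d : ℕ, Odd d ∧ lin χ (eV cs h X l) = d) →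
    (∃ d : ℕ, Odd d ∧ lin χ (eU cs h X * av (P := (Φ.comp SL2.tor).range) 1) = d) ∨
    ∃ ψ : S2 F → ℂ, IsIrrCharacter (S2 F) ψ ∧ Odd (charDegree ψ) ∧ ∀ φ : Multiplicative F →* ℂˣ, φ ≠ 1 →
      ∃ φ', (φ' = φ ∨ φ' = φ⁻¹) ∧ Cusp (fc ψ φ') φ' ∧ ∃ d : ℕ, Odd d ∧ lin χ (eV cs h X l * mp Φ (fc ψ φ')) = d

/-! ### the symplectic groups -/

section sp

variable {m : ℕ} {W Y : Type} [Group W] [Finite W] [Group Y] [Finite Y]
  {cs : CoxeterSystem (CoxeterMatrix.B (m + 1)) W} {p : ℕ} {T : Subgroup Y}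
  {n : Fin (m + 1) → Y} {X : (Fin (m + 1) → ℤ) → Subgroup Y} {F : Type} [Field F] [Fintype F]

/-- the data of `Sp_{2m+2}(F)` -/
structure Sp (R : RGD cs (Nodes.TypeC.isCartan (m + 1)) p T n X) (Φ : S2 F →* Y) (gg : Fin (m + 1) → Y) : Prop where
  nd : Nd R (Fin.last m) Φ
  cor : Cor R (isCartanT (m + 1)) 0 gg
  gen : T ≤ Subgroup.closure (Set.range gg)
  short : ∀ j : Fin m, (j : ℕ) + 1 < m → n j.castSucc ∈ CS Φ ∧ X (sr j.castSucc) ≤ CS Φ
  long : ∀ j : Fin m, ¬ (j : ℕ) + 1 < m → n j.castSucc * Φ SL2.wel * (n j.castSucc)⁻¹ ∈ CS Φ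

/-- the parity of the fixed spaces -/
def Par (cs : CoxeterSystem (CoxeterMatrix.B (m + 1)) W) (X : (Fin (m + 1) → ℤ) → Subgroup Y) : Prop :=
  ∀ χ : Y → ℂ, IsCharacter Y χ →
    (Even (m + 1) → Lev.Ev (∑ᶠ u : ↥(UU cs (Nodes.TypeC.isCartan (m + 1)) X), χ u - χ 1)) ∧
    (Odd (m + 1) → Lev.Ev (∑ᶠ u : ↥(VV cs (Nodes.TypeC.isCartan (m + 1)) X (Fin.last m)), χ u - χ 1))

end sp

section model

open Cfsg.Agent.Nodes Cfsg.Agent.TitsThree

variable (k : ℕ) (F : Type) [Field F] [Fintype F] (p : ℕ) [Fact p.Prime] [CharP F p]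

/-- the Weyl elements of `PSp_{2k}(F)` -/
noncomputable def nS (i : Fin k) : PSp k F :=
  (KInstSp.model k F).φ ⟨WittRGD.nn (SpIdent.frame k F) (SpIdent.adm 1) i, WittRGD.nn_mem WittU.amb_Sp _ i⟩

/-- the root group datum of `PSp_{2k}(F)` -/
theorem rgdS {W : Type} [Group W] (cs : CoxeterSystem (CoxeterMatrix.B k) W) :
    RGD cs (TypeC.isCartan k) p (WittModel.T (KInstSp.model k F)) (nS k F) (WittModel.X (KInstSp.model k F)) :=
  WittAll.rgdC_model (KInstSp.model k F) (WittAll.AmbT.of_amb WittU.amb_Sp p) (p0 := SpIdent.adm 1) one_ne_zero cs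

end model

/-- **(M)** -/
def MS : Prop :=
  ∀ (m : ℕ) (F : Type) [Field F] [Fintype F] (p : ℕ) [Fact p.Prime] [CharP F p] (W : Type) [Group W] [Finite W]
    (cs : CoxeterSystem (CoxeterMatrix.B (m + 1)) W) [Finite (PSp (m + 1) F)], Odd (Fintype.card F) →
    ∃ Φ : S2 F →* PSp (m + 1) F, ∃ gg, Sp (rgdS (m + 1) F p cs) Φ gg

/-- **(P)** -/
def ParS : Prop :=
  ∀ (m : ℕ) (F : Type) [Field F] [Fintype F] (W : Type) [Group W]
    (cs : CoxeterSystem (CoxeterMatrix.B (m + 1)) W), Fintype.card F % 4 = 3 →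
    Par cs (Nodes.WittModel.X (TitsThree.KInstSp.model (m + 1) F))

end Cfsg.Agent.ODD.PS.C3
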