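import Cfsg.Agent.ODD.PS.C3Defs
import Cfsg.Agent.Tits.Gate
import Cfsg.Agent.Nodes.NormalForm
import Cfsg.Agent.Nodes.LeviDec

/-!
# ODD / GAL: `PSp_{2n}(q)`, `q ≡ 3 mod 4`: the node `l` and the double cosets (helper6)

* `Su P` : the elements of the group algebra supported on `P`;
* `Gd` : the data of the second series, `Np` the relative normaliser, `tt` the basis of the Hecke algebra;
* `Gd.key` : `e z e` for `z` in a Bruhat cell.
-/

set_option autoImplicit false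
set_option linter.unusedSectionVars false

open Cfsg

namespace Cfsg.Agent.ODD.PS.C3

open CoxeterSystem Cfsg.Agent.ChevalleyStructure.CoxeterGeom Cfsg.Agent.Tits.Roots Cfsg.Agent.Tits.Core
  Cfsg.Agent.Nodes.Reps Cfsg.Agent.Nodes.BNOf Cfsg.Agent.Nodes.Bruhat Cfsg.Agent.Nodes.StabComb
  Cfsg.Agent.Nodes.SubComb Cfsg.Agent.Nodes.LeviDec Cfsg.Agent.Nodes.NormalForm Cfsg.Agent.Nodes.OppDec
  Cfsg.Agent.H684.OQ Cfsg.Agent.H670

/-! ### supports -/

section supp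

variable {Y : Type} [Group Y] {P : Subgroup Y}

/-- the elements supported on `P` -/
noncomputable def Su (P : Subgroup Y) : Subalgebra ℂ (Al Y) := (mp P.subtype).range

theorem dl_mem_su {g : Y} (hg : g ∈ P) : dl g ∈ Su P := ⟨dl ⟨g, hg⟩, mp_dl _ _⟩

theorem mp_mem_su {G : Type} [Group G] {Φ : G →* Y} (hΦ : ∀ s, Φ s ∈ P) (a : Al G) : mp Φ a ∈ Su P := by
  induction a using al_induction with
  | hd g => rw [mp_dl]; exact dl_mem_su (hΦ g)
  | ha a b ha hb => rw [map_add]; exact add_mem ha hb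
  | hs c a ha => rw [map_smul]; exact Subalgebra.smul_mem _ ha c

theorem av_mem_su [Finite Y] {Q : Subgroup Y} (hQ : Q ≤ P) (φ : Q →* ℂˣ) : av φ ∈ Su P := by
  have := Fintype.ofFinite Q
  rw [av_def]
  exact Subalgebra.smul_mem _ (sum_mem fun u _ => Subalgebra.smul_mem _ (dl_mem_su (hQ u.2)) _) _

theorem coeff_su {a b : Al Y} (ha : a ∈ Su P) (hb : b ∈ Su P) {z : Y} (hz : z ∉ P) : (a * dl z * b).coeff 1 = 0 := by
  classical
  obtain ⟨a, rfl⟩ := ha
  obtain ⟨b, rfl⟩ := hb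
  rw [coeff_eq_lin]
  change lin _ (mp P.subtype a * dl z * mp P.subtype b) = 0
  induction a using al_induction with
  | hd u =>
    induction b using al_induction with
    | hd v =>
      rw [mp_dl, mp_dl, ← dl_mul, ← dl_mul, lin_dl, if_neg]
      intro e
      apply hz
      have : z = (u : Y)⁻¹ * (P.subtype u * z * P.subtype v) * (v : Y)⁻¹ := by
        simp only [Subgroup.coe_subtype]; group
      rw [this, e, mul_one]
      exact mul_mem (inv_mem u.2) (inv_mem v.2)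
    | ha b b' hb hb' => rw [map_add, mul_add, map_add, hb, hb', add_zero]
    | hs c b hb => rw [map_smul, mul_smul_comm, map_smul, hb, smul_zero]
  | ha a a' ha ha' => rw [map_add, add_mul, add_mul, map_add, ha, ha', add_zero]
  | hs c a ha => rw [map_smul, smul_mul_assoc, smul_mul_assoc, map_smul, ha, smul_zero]

variable [Finite Y]

theorem dl_mul_av_one {u : Y} (hu : u ∈ P) : dl u * av (P := P) 1 = av (P := P) 1 := by
  have := dl_mul_av (1 : P →* ℂˣ) ⟨u, hu⟩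
  rwa [MonoidHom.one_apply, Units.val_one, one_smul] at this

theorem av_one_mul_dl {u : Y} (hu : u ∈ P) : av (P := P) 1 * dl u = av (P := P) 1 := by
  have := av_mul_dl (1 : P →* ℂˣ) ⟨u, hu⟩
  rwa [MonoidHom.one_apply, Units.val_one, one_smul] at this

theorem avg_one {a b c : Al Y} (hc : ∀ u ∈ P, a * dl u * b = c) : a * av (P := P) 1 * b = c :=
  avg_eq _ fun u => by
    rw [MonoidHom.one_apply, inv_one, Units.val_one, one_smul]
    exact hc u u.2

theorem av_mul_eq (φ : P →* ℂˣ) {b : Al Y} (hb : ∀ u : P, dl (u : Y) * b = ((φ u : ℂˣ) : ℂ) • b) : av φ * b = b := by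
  have := avg_eq φ (a := 1) (b := b) (c := b) fun u => by rw [one_mul, hb, smul_smul, Units.inv_mul, one_smul]
  rwa [one_mul] at this

theorem mul_av_eq (φ : P →* ℂˣ) {b : Al Y} (hb : ∀ u : P, b * dl (u : Y) = ((φ u : ℂˣ) : ℂ) • b) : b * av φ = b := by
  have := avg_eq φ (a := b) (b := 1) (c := b) fun u => by rw [mul_one, hb, smul_smul, Units.inv_mul, one_smul]
  rwa [mul_one] at this

end supp

variable {I W Y : Type} [Fintype I] [DecidableEq I] [Group W] [Finite W] [Group Y] [Finite Y]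
  {M : CoxeterMatrix I} {cs : CoxeterSystem M W} {A : I → I → ℤ} {h : IsCartan M A} {p : ℕ} {T : Subgroup Y}
  {n : I → Y} {X : (I → ℤ) → Subgroup Y} {R : RGD cs h p T n X} {F : Type} [Field F] [Fintype F] {l : I}
  {Φ : S2 F →* Y}

/-! ### roots -/

theorem posNe_eq (l : I) : RGD.PosNe cs h l = NotJ cs h {l} := by
  ext x
  constructor
  · rintro ⟨h1, h2, h3⟩
    exact ⟨h1, h2, exists_coeff h1 h2 h3⟩
  · rintro ⟨h1, h2, k, hk, h3⟩
    refine ⟨h1, h2, fun e => ?_⟩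
    rw [e, sr_ne hk] at h3
    exact lt_irrefl _ h3

theorem VV_eq (l : I) : VV cs h X l = VJ cs h X {l} := by rw [VV, posNe_eq, VJ]

theorem posNe_of {b γ : I → ℤ} (hb : b ∈ RGD.PosNe cs h l) (hγ : IsRoot cs h γ) {m c : ℤ} (hm : 0 < m)
    (e : m • γ = b + c • sr l) : γ ∈ RGD.PosNe cs h l := by
  obtain ⟨k, hk, h1⟩ := exists_coeff hb.1 hb.2.1 hb.2.2
  have h2 := congrFun e k
  rw [Pi.add_apply, Pi.smul_apply, Pi.smul_apply, sr_ne hk, smul_zero, add_zero, smul_eq_mul] at h2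
  have h3 : 0 < γ k := pos_of_mul_pos_left (b := m) (by rw [mul_comm, h2]; exact h1) hm.le
  rw [posNe_eq]
  exact ⟨hγ, nonneg_of_pos_apply hγ h3, k, hk, h3⟩

theorem nw_sub {r : W} (hr : rep cs h r (sr l) = sr l) : NW cs h r ⊆ RGD.PosNe cs h l := fun x hx =>
  ⟨hx.1, hx.2.1, fun e => (isRoot_sr cs h l).not_pos_neg (sr_nonneg l) (by
    have := hx.2.2
    rwa [e, hr] at this)⟩

theorem act_posNe {r : W} (hr : rep cs h r (sr l) = sr l) {x : I → ℤ} (hx : x ∈ RGD.PosNe cs h l)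
    (h0 : 0 ≤ rep cs h r x) : rep cs h r x ∈ RGD.PosNe cs h l :=
  ⟨hx.1.act r, h0, fun e => hx.2.2 (rep_injective_apply cs h r (e.trans hr.symm))⟩

variable (R) in
/-- `V = V_+ V_-` -/
theorem exists_split {r : W} (hr : rep cs h r (sr l) = sr l) {g : Y} (hg : Rp cs R.nsys r g) {u : Y}
    (hu : u ∈ VV cs h X l) : ∃ b, g * b * g⁻¹ ∈ VV cs h X l ∧ ∃ c ∈ RGD.Sup X (NW cs h r), u = b * c := by
  obtain ⟨b, hb, c, hc, rfl⟩ := exists_PW_NW R r (V_le_U l hu)
  obtain ⟨b', hb', x, hx, rfl⟩ := exists_mul_PW R (i := l) (by rw [hr]; exact sr_nonneg l) hb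
  have h1 : b' ∈ VV cs h X l :=
    RGD.Sup_mono (S' := RGD.PosNe cs h l) (fun y hy => ⟨hy.1.1, hy.1.2.1, hy.2⟩) hb'
  have h2 : c ∈ VV cs h X l := RGD.Sup_mono (nw_sub hr) hc
  have h3 : x = 1 := eq_one_of_mem_V R hx (by
    have : x = b'⁻¹ * (b' * x * c) * c⁻¹ := by group
    rw [this]
    exact mul_mem (mul_mem (inv_mem h1) hu) (inv_mem h2))
  rw [h3, mul_one]
  exact ⟨b', conj_mem_Sup R hg (fun y hy => hy.1.1)
    (fun y hy => act_posNe hr ⟨hy.1.1, hy.1.2.1, hy.2⟩ hy.1.2.2) hb', c, hc, rfl⟩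

/-! ### the idempotent of `V` -/

theorem dl_mul_eV {u : Y} (hu : u ∈ VV cs h X l) : dl u * eV cs h X l = eV cs h X l := dl_mul_av_one hu

theorem eV_mul_dl {u : Y} (hu : u ∈ VV cs h X l) : eV cs h X l * dl u = eV cs h X l := av_one_mul_dl hu

theorem eV_mul_eV : eV cs h X l * eV cs h X l = eV cs h X l := av_mul_av _

theorem dl_comm_eV {g : Y} (hg : g ∈ Subgroup.normalizer (VV cs h X l : Set Y)) :
    dl g * eV cs h X l = eV cs h X l * dl g :=
  dl_comm_av _ hg fun _ _ => rfl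

variable (R) in
include R in
theorem t_comm_eV {t : Y} (ht : t ∈ T) : dl t * eV cs h X l = eV cs h X l * dl t :=
  dl_comm_eV (R.T_le_normalizer (fun _ hx => hx.1) ht)

variable (R) in
/-- `eV g eV = eV g eQ` -/
theorem eV_g_eV {r : W} (hr : rep cs h r (sr l) = sr l) {g : Y} (hg : Rp cs R.nsys r g) {Q : Subgroup Y}
    (h1 : RGD.Sup X (NW cs h r) ≤ Q) (h2 : Q ≤ VV cs h X l) :
    eV cs h X l * dl g * eV cs h X l = eV cs h X l * dl g * av (P := Q) 1 := by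
  have h3 : eV cs h X l * av (P := Q) 1 = eV cs h X l :=
    mul_av_eq _ fun u => by rw [eV_mul_dl (h2 u.2), MonoidHom.one_apply, Units.val_one, one_smul]
  nth_rewrite 2 [← h3]
  rw [← mul_assoc]
  refine avg_one fun u hu => ?_
  obtain ⟨b, hb, c, hc, rfl⟩ := exists_split R hr hg hu
  have e : dl g * dl (b * c) = dl (g * b * g⁻¹) * dl g * dl c := by
    rw [← dl_mul, ← dl_mul, ← dl_mul]; congr 1; group
  rw [mul_assoc (eV cs h X l), e, ← mul_assoc, ← mul_assoc, eV_mul_dl hb, mul_assoc, dl_mul_av_one (h1 hc)]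

theorem mem_CS {g : Y} : g ∈ CS Φ ↔ ∀ s, Φ s * g = g * Φ s := by
  rw [CS, Subgroup.mem_centralizer_iff]
  exact ⟨fun H s => H _ ⟨s, rfl⟩, fun H _ ⟨s, e⟩ => e ▸ H s⟩

theorem cs_comm {g : Y} (hg : g ∈ CS Φ) (a : Al (S2 F)) : dl g * mp Φ a = mp Φ a * dl g := by
  induction a using al_induction with
  | hd s => rw [mp_dl, ← dl_mul, ← dl_mul, mem_CS.1 hg]
  | ha a b ha hb => rw [map_add, mul_add, add_mul, ha, hb]
  | hs c a ha => rw [map_smul, mul_smul_comm, smul_mul_assoc, ha]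

namespace Nd

variable (N : Nd R l Φ)

include N

theorem x_mem (s : F) : Φ (SL2.x s) ∈ X (sr l) := (N.mem _).2 ⟨s, rfl⟩

theorem phi_mem (s : S2 F) : Φ s ∈ LJ cs h T X {l} := by
  have hx : ∀ r, Φ (SL2.x r) ∈ LJ cs h T X {l} := fun r =>
    X_le_LJ (PosJ_subset _ (sr_mem_PosJ (Set.mem_singleton l))) (N.x_mem r)
  have hw : Φ SL2.wel ∈ LJ cs h T X {l} :=
    rp_mem_LJ R (Subgroup.subset_closure ⟨l, Set.mem_singleton l, rfl⟩) N.wel
  rcases (SL2.data F).bruhat s with ⟨r, _, ⟨u, rfl⟩, rfl⟩ | ⟨r, r', _, ⟨u, rfl⟩, rfl⟩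
  · rw [map_mul]
    exact mul_mem (hx r) (T_le_LJ (N.tor u))
  · rw [map_mul, map_mul, map_mul]
    exact mul_mem (mul_mem (mul_mem (hx r) hw) (T_le_LJ (N.tor u))) (hx r')

theorem norm (s : S2 F) : Φ s ∈ Subgroup.normalizer (VV cs h X l : Set Y) := by
  rw [VV_eq]
  exact LJ_le_normalizer_VJ R _ (N.phi_mem s)

theorem mp_comm (a : Al (S2 F)) : mp Φ a * eV cs h X l = eV cs h X l * mp Φ a := by
  induction a using al_induction with
  | hd s => rw [mp_dl, dl_comm_eV (N.norm s)]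
  | ha a b ha hb => rw [map_add, mul_add, add_mul, ha, hb]
  | hs c a ha => rw [map_smul, mul_smul_comm, smul_mul_assoc, ha]

/-- the parametrisation of the root group -/
noncomputable def xl : Multiplicative F →* ↥(X (sr l)) := (Φ.comp (SL2.data F).xh).codRestrict _ fun s => N.x_mem s.toAdd

theorem xl_bij : Function.Bijective N.xl := by
  constructor
  · rw [injective_iff_map_eq_one]
    intro s hs
    exact N.inj s.toAdd (congrArg Subtype.val hs)
  · rintro ⟨u, hu⟩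
    obtain ⟨s, rfl⟩ := (N.mem u).1 hu
    exact ⟨Multiplicative.ofAdd s, rfl⟩

theorem mp_eph (ψ : ↥(X (sr l)) →* ℂˣ) : mp Φ (eph (ψ.comp N.xl)) = av ψ := by
  have := Fintype.ofFinite ↥(X (sr l))
  rw [eph, av_def, map_smul, map_sum, ← Nat.card_eq_of_bijective _ N.xl_bij, Nat.card_eq_fintype_card,
    Fintype.card_multiplicative]
  congr 1
  refine Fintype.sum_equiv (Multiplicative.ofAdd.trans (Equiv.ofBijective _ N.xl_bij)) _ _ fun r => ?_
  rw [map_smul, mp_dl]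
  rfl

/-- cuspidality -/
theorem kill0 {f : Al (S2 F)} {φ : Multiplicative F →* ℂˣ} (C : Cusp f φ) (s : S2 F) {w : W} {k : Y}
    (hk : Rp cs R.nsys w k) (hw : rep cs h w⁻¹ (sr l) ∈ RGD.PosNe cs h l) :
    mp Φ f * dl (Φ s) * dl k * eV cs h X l = 0 := by
  have h1 : av (P := X (sr l)) 1 * (dl k * eV cs h X l) = dl k * eV cs h X l := av_mul_eq _ fun u => by
    have h2 : k⁻¹ * u * k ∈ VV cs h X l := RGD.le_Sup hw (R.conj_mem' hk (isRoot_sr cs h l) u.2)
    have e : dl (u : Y) * dl k = dl k * dl (k⁻¹ * u * k) := by rw [← dl_mul, ← dl_mul]; congr 1; group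
    rw [← mul_assoc, e, mul_assoc, dl_mul_eV h2, MonoidHom.one_apply, Units.val_one, one_smul]
  rw [mul_assoc, ← h1, ← N.mp_eph, ← mul_assoc, ← mp_dl, ← map_mul, ← map_mul]
  change mp Φ (f * dl s * eph 1) * _ = 0
  rw [C.cusp, map_zero, zero_mul]

theorem kill {f : Al (S2 F)} {φ : Multiplicative F →* ℂˣ} (C : Cusp f φ) (s : S2 F) {w : W} {k : Y}
    (hk : Rp cs R.nsys w k) (h1 : rep cs h w (sr l) ≠ sr l) (h2 : rep cs h w (sr l) ≠ -sr l) :
    mp Φ f * dl (Φ s) * dl k * eV cs h X l = 0 := by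
  have hr := (isRoot_sr cs h l).act w⁻¹
  rcases hr.pos_or_neg with h0 | h0
  · exact N.kill0 C s hk ⟨hr, h0, fun e => h1 (by nth_rewrite 1 [← e]; rw [rep_apply_inv])⟩
  · have h3 := N.kill0 C (s * SL2.wel) (N.wel.inv.mul hk) (by
      rw [mul_inv_rev, inv_inv, rep_mul_apply, rep_simple_sr, map_neg]
      refine ⟨hr.neg, neg_nonneg.2 h0, fun e => h2 ?_⟩
      nth_rewrite 1 [← e]
      rw [map_neg, rep_apply_inv])
    rwa [map_mul, dl_mul, dl_mul, mul_assoc (mp Φ f), mul_assoc (dl (Φ s)),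
      ← mul_assoc (dl (Φ SL2.wel)), dl_mul_inv, one_mul, ← mul_assoc (mp Φ f)] at h3

end Nd

theorem Cusp.right {f : Al (S2 F)} {φ : Multiplicative F →* ℂˣ} (C : Cusp f φ) (s : S2 F) :
    ∃ c : ℂ, f * dl s * f = c • f := by
  obtain ⟨c, hc⟩ := C.one s
  refine ⟨c, ?_⟩
  nth_rewrite 2 [← C.left]
  rw [← mul_assoc, hc, smul_mul_assoc, C.idem]

/-! ### the data -/

variable {AT : I → I → ℤ} {hT : IsCartan M AT} {J W' : Type} [Fintype J] [DecidableEq J] [Group W']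
  {M' : CoxeterMatrix J} {cs' : CoxeterSystem M' W'} {A' : J → J → ℤ} {h' : IsCartan M' A'} {β : J → I → ℤ}
  {w : J → W} {i : J → I} {g : J → Y}

/-- the data of the second series -/
structure Gd (R : RGD cs h p T n X) (hT : IsCartan M AT) (l : I) (Φ : S2 F →* Y) (cs' : CoxeterSystem M' W')
    (h' : IsCartan M' A') (β : J → I → ℤ) (w : J → W) (i : J → I) (g : J → Y) : Prop where
  nd : Nd R l Φ
  sb : Sb cs h hT l cs' h' β w i
  rp : ∀ j, Rp cs R.nsys (rfl' cs (w j) (i j)) (g j)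
  cen : ∀ j, g j ∈ CS Φ
  sh : ∀ j, w j = 1 → g j = n (i j) ∧ X (sr (i j)) ≤ CS Φ

namespace Gd

variable (G : Gd R hT l Φ cs' h' β w i g)

include G

/-- the embedding of the relative Weyl group -/
def ph : W' →* W := G.sb.sys.phi cs' h'

theorem ph_simple (j : J) : G.ph (cs'.simple j) = rfl' cs (w j) (i j) := G.sb.sys.phi_simple cs' h' j

theorem ph_fix (v : W') : rep cs h (G.ph v) (sr l) = sr l := by
  induction v using cs'.simple_induction_left with
  | one => rw [map_one, map_one, Module.End.one_apply]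
  | mul_simple_left v j ih => rw [map_mul, rep_mul_apply, ih, ph_simple, G.sb.fix]

theorem ph_beta (v : W') (j : J) : rep cs h (G.ph v) (β j) = iota β (rep cs' h' v (sr j)) := by
  rw [← G.sb.sys.rep_phi cs' h', iota_sr, ph]

theorem iota_nonneg {c : J → ℤ} (hc : 0 ≤ c) : 0 ≤ iota β c := by
  rw [iota_apply]
  exact Finset.sum_nonneg fun j _ => smul_nonneg (hc j) (G.sb.pos j)

theorem beta_mem (j : J) : β j ∈ RGD.PosNe cs h l := by
  refine ⟨G.sb.sys.isRoot_beta j, G.sb.pos j, fun e => ?_⟩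
  have h1 := G.ph_beta (cs'.simple j) j
  rw [rep_simple_sr, map_neg, iota_sr, e, G.ph_fix] at h1
  exact (isRoot_sr cs h l).not_pos_neg (sr_nonneg l) (by rw [h1]; exact neg_nonpos.2 (sr_nonneg l))

/-- the relative normaliser -/
def Np : Subgroup (W' × Y) where
  carrier := {a | Rp cs R.nsys (G.ph a.1) a.2 ∧ a.2 ∈ CS Φ}
  one_mem' := ⟨by rw [Prod.fst_one, map_one]; exact rp_one, one_mem _⟩
  mul_mem' := fun ha hb => ⟨by rw [Prod.fst_mul, map_mul]; exact ha.1.mul hb.1, mul_mem ha.2 hb.2⟩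
  inv_mem' := fun ha => ⟨by rw [Prod.fst_inv, map_inv]; exact ha.1.inv, inv_mem ha.2⟩

/-- the simple reflections -/
def nn (j : J) : G.Np := ⟨(cs'.simple j, g j), by rw [ph_simple]; exact G.rp j, G.cen j⟩

/-- the elements of the torus -/
def kt {t : Y} (ht : t ∈ T) (hc : t ∈ CS Φ) : G.Np := ⟨(1, t), by rw [map_one]; exact rp_of_mem ht, hc⟩

theorem exists_np (v : W') : ∃ a : G.Np, a.1.1 = v := by
  induction v using cs'.simple_induction_left with
  | one => exact ⟨1, rfl⟩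
  | mul_simple_left v j ih =>
    obtain ⟨a, rfl⟩ := ih
    exact ⟨G.nn j * a, rfl⟩

theorem mem_T {a : G.Np} (ha : a.1.1 = 1) : a.1.2 ∈ T := by
  have h1 := a.2.1
  rw [ha, map_one] at h1
  exact h1.mem_of_one

theorem rep_dec0 {v : W} {k : Y} (hk : Rp cs R.nsys v k) (hv : rep cs h v (sr l) = sr l) :
    ∃ (a : G.Np) (u : Fˣ), k = a.1.2 * Φ (SL2.tor u) ∧ v = G.ph a.1.1 := by
  obtain ⟨v, rfl⟩ := G.sb.stab v hv
  obtain ⟨a, rfl⟩ := G.exists_np v
  have ht := a.2.1.unique hk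
  obtain ⟨u, hu⟩ := G.nd.dec _ ht
  refine ⟨a * G.kt (mul_mem ht (inv_mem (G.nd.tor u))) hu, u, ?_, ?_⟩
  · show k = a.1.2 * (a.1.2⁻¹ * k * (Φ (SL2.tor u))⁻¹) * Φ (SL2.tor u)
    group
  · show _ = G.ph (a.1.1 * 1)
    rw [mul_one, ph]

theorem rep_dec {v : W} {k : Y} (hk : Rp cs R.nsys v k)
    (hv : rep cs h v (sr l) = sr l ∨ rep cs h v (sr l) = -sr l) :
    ∃ (a : G.Np) (s : S2 F), k = a.1.2 * Φ s ∧ (v = G.ph a.1.1 ∨ v = G.ph a.1.1 * cs.simple l) := by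
  rcases hv with hv | hv
  · obtain ⟨a, u, h1, h2⟩ := G.rep_dec0 hk hv
    exact ⟨a, _, h1, Or.inl h2⟩
  · obtain ⟨a, u, h1, h2⟩ := G.rep_dec0 (hk.mul G.nd.wel.inv) (by
      rw [cs.inv_simple, rep_mul_apply, rep_simple_sr, map_neg, hv, neg_neg])
    refine ⟨a, SL2.tor u * SL2.wel, ?_, Or.inr ?_⟩
    · rw [map_mul, ← mul_assoc, ← h1, inv_mul_cancel_right]
    · rw [← h2, inv_mul_cancel_right]

/-- the basis of the Hecke algebra -/
noncomputable def tt (f : Al (S2 F)) (a : G.Np) : Al Y := eV cs h X l * dl a.1.2 * eV cs h X l * mp Φ f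

theorem tt_one (f : Al (S2 F)) : G.tt f 1 = eV cs h X l * mp Φ f := by
  show eV cs h X l * dl 1 * eV cs h X l * mp Φ f = _
  rw [dl_one, mul_one, eV_mul_eV]

/-- the decomposition of an element of a cell -/
theorem cell_dec {v : W} {z : Y} (hz : Cell R.nsys cs h X v z) : ∃ a ∈ VV cs h X l, ∃ (s : F) (k : Y),
    Rp cs R.nsys v k ∧ ∃ u ∈ UU cs h X, z = a * Φ (SL2.x s) * k * u := by
  obtain ⟨b₁, hb₁, k, hk, b₂, hb₂, rfl⟩ := hz
  obtain ⟨a, ha, x, hx, t₁, ht₁, rfl⟩ := R.mem_B' l hb₁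
  obtain ⟨t₂, ht₂, u, hu, rfl⟩ := R.mem_B.1 hb₂
  obtain ⟨s, rfl⟩ := (G.nd.mem x).1 hx
  refine ⟨a, ha, s, t₁ * k * t₂, ?_, u, hu, by group⟩
  have := ((rp_of_mem (cs := cs) (hN := R.nsys) ht₁).mul hk).mul_mem_right ht₂
  rwa [one_mul] at this

variable {f : Al (S2 F)} {φ : Multiplicative F →* ℂˣ} (C : Cusp f φ)

include C

/-- **the double cosets** -/
theorem key {v : W} {z : Y} (hz : Cell R.nsys cs h X v z) :
    G.tt f 1 * dl z * G.tt f 1 = 0 ∨ ∃ (a : G.Np) (c : ℂ), G.tt f 1 * dl z * G.tt f 1 = c • G.tt f a ∧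
      (v = G.ph a.1.1 ∨ v = G.ph a.1.1 * cs.simple l) := by
  obtain ⟨a, ha, s, k, hk, u, hu, rfl⟩ := G.cell_dec hz
  obtain ⟨b, hb, x, hx, rfl⟩ := exists_vx R l hu
  obtain ⟨s', rfl⟩ := (G.nd.mem x).1 hx
  have e1 : G.tt f 1 * dl (a * Φ (SL2.x s) * k * (b * Φ (SL2.x s'))) * G.tt f 1 =
      eV cs h X l * (mp Φ f * dl (Φ (SL2.x s)) * dl k * eV cs h X l) * (dl (Φ (SL2.x s')) * mp Φ f) := by
    rw [tt_one, dl_mul, dl_mul, dl_mul, dl_mul]
    calc _ = (eV cs h X l * mp Φ f * dl a) * dl (Φ (SL2.x s)) * dl k * (dl b * (dl (Φ (SL2.x s')) * eV cs h X l)) *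
          mp Φ f := by simp only [mul_assoc]
      _ = _ := by
        rw [← G.nd.mp_comm, mul_assoc (mp Φ f), eV_mul_dl ha, G.nd.mp_comm, dl_comm_eV (G.nd.norm _),
          ← mul_assoc (dl b), dl_mul_eV hb]
        simp only [mul_assoc]
  rw [e1]
  by_cases hv : rep cs h v (sr l) = sr l ∨ rep cs h v (sr l) = -sr l
  · obtain ⟨a, s'', rfl, h2⟩ := G.rep_dec hk hv
    obtain ⟨c, hc⟩ := C.right (SL2.x s * s'' * SL2.x s')
    refine Or.inr ⟨a, c, ?_, h2⟩
    have e2 : mp Φ f * dl (Φ (SL2.x s)) * dl a.1.2 = dl a.1.2 * (mp Φ f * dl (Φ (SL2.x s))) := by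
      rw [← mp_dl, ← map_mul, cs_comm a.2.2]
    rw [tt, ← mul_smul_comm, ← map_smul, ← hc, dl_mul, ← mul_assoc (mp Φ f * _), e2, mul_assoc _ (dl (Φ s'')),
      dl_comm_eV (G.nd.norm _), mul_assoc (dl a.1.2), ← mul_assoc (mp Φ f * _), ← mp_dl Φ (SL2.x s), ← map_mul,
      G.nd.mp_comm]
    simp only [map_mul, dl_mul, mp_dl, mul_assoc]
  · rw [not_or] at hv
    left
    rw [G.nd.kill C _ hk hv.1 hv.2, mul_zero, zero_mul]

end Gd

end Cfsg.Agent.ODD.PS.C3
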