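import Cfsg.Agent.ODD.PS.C3H1

/-!
# ODD / GAL: `PSp_{2n}(q)`, `q ≡ 3 mod 4`: the Hecke datum of the second series (helper6)
-/

set_option autoImplicit false
set_option linter.unusedSectionVars false

open Cfsg

namespace Cfsg.Agent.ODD.PS.C3

open CoxeterSystem Cfsg.Agent.ChevalleyStructure.CoxeterGeom Cfsg.Agent.Tits.Roots Cfsg.Agent.Tits.Core
  Cfsg.Agent.Nodes.Reps Cfsg.Agent.Nodes.BNOf Cfsg.Agent.Nodes.Bruhat Cfsg.Agent.Nodes.StabComb
  Cfsg.Agent.Nodes.SubComb Cfsg.Agent.Nodes.LeviDec Cfsg.Agent.Nodes.NormalForm Cfsg.Agent.Nodes.OppDec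
  Cfsg.Agent.H684.OQ Cfsg.Agent.H670

variable {I W Y : Type} [Fintype I] [DecidableEq I] [Group W] [Finite W] [Group Y] [Finite Y]
  {M : CoxeterMatrix I} {cs : CoxeterSystem M W} {A : I → I → ℤ} {h : IsCartan M A} {p : ℕ} {T : Subgroup Y}
  {n : I → Y} {X : (I → ℤ) → Subgroup Y} {R : RGD cs h p T n X} {F : Type} [Field F] [Fintype F] {l : I}
  {Φ : S2 F →* Y} {AT : I → I → ℤ} {hT : IsCartan M AT} {J W' : Type} [Fintype J] [DecidableEq J] [Group W']
  {M' : CoxeterMatrix J} {cs' : CoxeterSystem M' W'} {A' : J → J → ℤ} {h' : IsCartan M' A'} {β : J → I → ℤ}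
  {w : J → W} {i : J → I} {g : J → Y}

namespace Gd

variable (G : Gd R hT l Φ cs' h' β w i g)

include G

theorem ph_injective : Function.Injective G.ph := G.sb.sys.phi_injective cs' h'

theorem finite_W : Finite W' := Finite.of_injective _ G.ph_injective

theorem finite_Np : Finite G.Np := by
  have := G.finite_W
  infer_instance

theorem V_le_P : VV cs h X l ≤ PJ cs h T X {l} := by rw [VV_eq]; exact VJ_le_PJ

theorem phi_mem_P (s : S2 F) : Φ s ∈ PJ cs h T X {l} := LJ_le_PJ (G.nd.phi_mem s)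

theorem eq_one_of_mem_P {a : G.Np} (ha : a.1.2 ∈ PJ cs h T X {l}) : a.1.1 = 1 := by
  rcases Bldg.mem_WJ_singleton.1 ((cell_mem_PJ_iff R (cell_of_rp a.2.1)).1 ha) with h1 | h1
  · exact G.ph_injective (h1.trans (map_one _).symm)
  · have h2 := G.ph_fix a.1.1
    rw [h1, rep_simple_sr] at h2
    exact absurd (show sr l ≤ 0 by rw [← h2]; exact neg_nonpos.2 (sr_nonneg l))
      ((isRoot_sr cs h l).not_pos_neg (sr_nonneg l))

theorem descent {j : J} {K : Set I} (hr : rfl' cs (w j) (i j) ∈ WJ cs K) (hK : ∀ k, β k ∈ RootsJ cs h K → k = j)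
    {v : W'} (hv : G.ph v ∈ WJ cs K) (h1 : v ≠ 1) : v = cs'.simple j := by
  have key : ∀ v : W', G.ph v ∈ WJ cs K → v ≠ 1 → cs'.length (v * cs'.simple j) < cs'.length v := by
    intro v hv h1
    obtain ⟨k, hk⟩ := cs'.exists_rightDescent_of_ne_one h1
    have h2 : rep cs h (G.ph v) (β k) ≤ 0 := by
      have h3 := G.iota_nonneg (neg_nonneg.2 (nonpos_of_lt cs' h' v k hk))
      rw [map_neg, neg_nonneg] at h3
      rw [G.ph_beta]
      exact h3
    rcases mem_PosJ_or_NotJ K (G.beta_mem k).1 (G.beta_mem k).2.1 with h3 | h3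
    · rw [← hK k (PosJ_subset K h3)]
      exact hk
    · have h4 := NotJ.act hv h3
      exact absurd h2 (h4.1.not_pos_neg h4.2.1)
  by_contra h2
  have h3 := key v hv h1
  have h4 := key (v * cs'.simple j) (by rw [map_mul, ph_simple]; exact mul_mem hv hr) fun e => h2 (by
    rw [eq_inv_of_mul_eq_one_left e, cs'.inv_simple])
  rw [cs'.simple_mul_simple_cancel_right] at h4
  omega

theorem conj_VN {j : J} {y : Y} (hy : y ∈ RGD.Sup X (NW cs h (rfl' cs (w j) (i j)))) :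
    g j * y * (g j)⁻¹ ∈ VNJ cs h X {l} := by
  refine conj_mem_Sup R (G.rp j) (S' := NotNJ cs h {l}) (fun x hx => hx.1) (fun x hx => ?_) hy
  show -_ ∈ NotJ cs h {l}
  rw [← posNe_eq]
  refine ⟨(hx.1.act _).neg, neg_nonneg.2 hx.2.2, fun e => ?_⟩
  rw [← G.sb.fix j, ← map_neg] at e
  have h1 := rep_injective_apply cs h _ e
  exact (isRoot_sr cs h l).not_pos_neg (sr_nonneg l) (by rw [← h1]; exact neg_nonpos.2 hx.2.1)

theorem conj_LJ {j : J} {K : Set I} (hl : l ∈ K) (hr : rfl' cs (w j) (i j) ∈ WJ cs K) {y : Y}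
    (hy : y ∈ RGD.Sup X (NW cs h (rfl' cs (w j) (i j)))) : g j * y * (g j)⁻¹ ∈ LJ cs h T X K := by
  have h1 := rp_mem_LJ R hr (G.rp j)
  refine mul_mem (mul_mem h1 (RGD.Sup_le (fun x hx => X_le_LJ ⟨hx.1, fun k hk => ?_⟩) hy)) (inv_mem h1)
  obtain ⟨m, c, hm, e⟩ := G.sb.inv j x hx.1 hx.2.1 hx.2.2
  have h2 := G.ph_beta (cs'.simple j) j
  rw [rep_simple_sr, map_neg, iota_sr, ph_simple] at h2
  have h3 := Tits.RootComb.rep_apply_of_mem cs h hr (β j) hk
  rw [h2, Pi.neg_apply] at h3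
  have h4 := congrFun e k
  rw [Pi.add_apply, Pi.smul_apply, Pi.smul_apply, sr_ne (fun e2 : k = l => hk (e2 ▸ hl)), smul_zero, add_zero,
    smul_eq_mul, show β j k = 0 by omega] at h4
  exact (mul_eq_zero.1 h4).resolve_left hm.ne'

variable {f : Al (S2 F)} {φ : Multiplicative F →* ℂˣ} (C : Cusp f φ)

include C

theorem f_mul_f : mp Φ f * mp Φ f = mp Φ f := by rw [← map_mul, C.idem]

theorem tt_mul (a b : G.Np) : G.tt f a * G.tt f b =
    eV cs h X l * dl a.1.2 * eV cs h X l * dl b.1.2 * eV cs h X l * mp Φ f := by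
  rw [tt, tt, mul_assoc _ (mp Φ f), ← mul_assoc (mp Φ f), ← mul_assoc (mp Φ f), ← mul_assoc (mp Φ f), G.nd.mp_comm,
    mul_assoc _ (mp Φ f), ← cs_comm b.2.2, mul_assoc _ (_ * mp Φ f), mul_assoc _ (mp Φ f), G.nd.mp_comm]
  simp only [mul_assoc]
  rw [G.f_mul_f C, ← mul_assoc (eV cs h X l) (eV cs h X l), eV_mul_eV]

theorem tt_eq (a : G.Np) : G.tt f 1 * dl a.1.2 * G.tt f 1 = G.tt f a := by
  rw [tt_one, tt, mul_assoc _ (mp Φ f), ← cs_comm a.2.2]
  simp only [mul_assoc]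
  rw [← mul_assoc (mp Φ f), G.nd.mp_comm, mul_assoc, G.f_mul_f C]

theorem tt_left (a b : G.Np) (ha : a.1.1 = 1) : G.tt f (a * b) = G.tt f a * G.tt f b := by
  rw [G.tt_mul C, mul_assoc (eV cs h X l) (dl a.1.2), t_comm_eV R (G.mem_T ha), ← mul_assoc (eV cs h X l), eV_mul_eV,
    mul_assoc (eV cs h X l) (dl a.1.2), ← dl_mul]
  rfl

theorem tt_right (a b : G.Np) (hb : b.1.1 = 1) : G.tt f (a * b) = G.tt f a * G.tt f b := by
  rw [G.tt_mul C, mul_assoc _ (eV cs h X l) (dl b.1.2), ← t_comm_eV R (G.mem_T hb), mul_assoc _ (_ * eV cs h X l),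
    mul_assoc (dl b.1.2), eV_mul_eV, ← mul_assoc, mul_assoc (eV cs h X l) (dl a.1.2), ← dl_mul]
  rfl

theorem tt_add (j : J) (a : G.Np) (hl : cs'.length a.1.1 < cs'.length (cs'.simple j * a.1.1)) :
    G.tt f (G.nn j) * G.tt f a = G.tt f (G.nn j * a) := by
  have h1 : 0 ≤ rep cs' h' a.1.1⁻¹ (sr j) := nonneg_of_lt cs' h' _ j (by
    rw [← cs'.length_inv (_ * _), mul_inv_rev, inv_inv, cs'.inv_simple, cs'.length_inv]
    exact hl)
  have h2 : rep cs h (G.ph a.1.1)⁻¹ (β j) ∈ RGD.PosNe cs h l := by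
    rw [← map_inv]
    exact act_posNe (G.ph_fix _) (G.beta_mem j) (by rw [G.ph_beta]; exact G.iota_nonneg h1)
  have h3 : av (P := RGD.Sup X (NW cs h (rfl' cs (w j) (i j)))) 1 * (dl a.1.2 * eV cs h X l) =
      dl a.1.2 * eV cs h X l := av_mul_eq _ fun u => by
    have h4 : a.1.2⁻¹ * u * a.1.2 ∈ VV cs h X l := by
      refine conj_mem_Sup' R a.2.1 (fun x hx => hx.1) (fun x hx => ?_) u.2
      obtain ⟨m, c, hm, e⟩ := G.sb.inv j x hx.1 hx.2.1 hx.2.2
      refine posNe_of h2 (hx.1.act _) hm (c := c) ?_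
      rw [← map_zsmul, e, map_add, map_zsmul, ← map_inv, G.ph_fix]
    have e : dl (u : Y) * dl a.1.2 = dl a.1.2 * dl (a.1.2⁻¹ * u * a.1.2) := by
      rw [← dl_mul, ← dl_mul]; congr 1; group
    rw [← mul_assoc, e, mul_assoc, dl_mul_eV h4, MonoidHom.one_apply, Units.val_one, one_smul]
  rw [G.tt_mul C]
  change eV cs h X l * dl (g j) * _ * _ * _ * _ = eV cs h X l * dl (g j * a.1.2) * _ * _
  rw [eV_g_eV R (G.sb.fix j) (G.rp j) le_rfl (RGD.Sup_mono (nw_sub (G.sb.fix j))), mul_assoc _ (dl a.1.2),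
    mul_assoc _ (av 1), h3, dl_mul]
  simp only [mul_assoc]

open Classical in
theorem tt_quad (j : J) {Q : Subgroup Y} [Fintype Q] (h1 : RGD.Sup X (NW cs h (rfl' cs (w j) (i j))) ≤ Q)
    (h2 : Q ≤ VV cs h X l) : G.tt f (G.nn j) * G.tt f (G.nn j)⁻¹ = (Nat.card Q : ℂ)⁻¹ •
      (G.tt f 1 + ∑ y ∈ Finset.univ.erase (1 : Q), G.tt f 1 * dl (g j * y * (g j)⁻¹) * G.tt f 1) := by
  have h3 : G.tt f (G.nn j) * G.tt f (G.nn j)⁻¹ =
      mp Φ f * (eV cs h X l * dl (g j) * eV cs h X l) * (dl (g j)⁻¹ * G.tt f 1) := by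
    rw [← G.tt_eq C (G.nn j)⁻¹, ← mul_assoc, ← mul_assoc, ← G.tt_right C _ 1 rfl, mul_one, ← G.tt_eq C (G.nn j),
      tt_one]
    change eV cs h X l * mp Φ f * dl (g j) * (eV cs h X l * mp Φ f) * dl (g j)⁻¹ * (eV cs h X l * mp Φ f) = _
    calc _ = eV cs h X l * mp Φ f * dl (g j) * eV cs h X l * (mp Φ f * dl (g j)⁻¹ * eV cs h X l) * mp Φ f := by
          simp only [mul_assoc]
      _ = _ := by
        rw [← cs_comm (inv_mem (G.cen j)), mul_assoc (dl _), G.nd.mp_comm, ← G.nd.mp_comm f]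
        simp only [mul_assoc]
        rw [← mul_assoc (mp Φ f) (eV cs h X l) (mp Φ f), G.nd.mp_comm, mul_assoc, G.f_mul_f C]
  have h4 : G.tt f 1 = G.tt f 1 * dl (g j * (1 : Q) * (g j)⁻¹) * G.tt f 1 := by
    rw [Subgroup.coe_one, mul_one, mul_inv_cancel, dl_one, mul_one, ← G.tt_left C 1 1 rfl, mul_one]
  nth_rewrite 1 [h4]
  rw [Finset.add_sum_erase _ (fun y : Q => G.tt f 1 * dl (g j * y * (g j)⁻¹) * G.tt f 1) (Finset.mem_univ 1), h3,
    eV_g_eV R (G.sb.fix j) (G.rp j) h1 h2, av_def, mul_smul_comm, mul_smul_comm, smul_mul_assoc, Finset.mul_sum,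
    Finset.mul_sum, Finset.sum_mul]
  refine congrArg _ (Finset.sum_congr rfl fun y _ => ?_)
  rw [MonoidHom.one_apply, inv_one, Units.val_one, one_smul, dl_mul, dl_mul]
  nth_rewrite 2 [tt_one]
  rw [← G.nd.mp_comm]
  simp only [mul_assoc]

theorem tt_su {a : G.Np} (ha : a.1.1 = 1) : G.tt f a ∈ Su (PJ cs h T X {l}) :=
  mul_mem (mul_mem (mul_mem (av_mem_su G.V_le_P _) (dl_mem_su (LJ_le_PJ (T_le_LJ (G.mem_T ha)))))
    (av_mem_su G.V_le_P _)) (mp_mem_su G.phi_mem_P f)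

/-- **the Hecke datum** -/
noncomputable def dat : AH.Dat cs' G.Np (Al Y) where
  π := (MonoidHom.fst W' Y).comp G.Np.subtype
  n := G.nn
  π_n _ := rfl
  comm a b ha hb := Subtype.ext (Prod.ext (by
    show a.1.1 * b.1.1 = b.1.1 * a.1.1
    rw [show a.1.1 = 1 from ha, one_mul, mul_one]) (G.nd.comm _ (G.mem_T ha) _ (G.mem_T hb)))
  t := G.tt f
  t_left a b ha := G.tt_left C a b ha
  t_right a b hb := G.tt_right C a b hb
  add := G.tt_add C
  quad j := by
    classical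
    have := Fintype.ofFinite ↥(RGD.Sup X (NW cs h (rfl' cs (w j) (i j))))
    refine ⟨_, inv_ne_zero (card_ne (RGD.Sup X (NW cs h (rfl' cs (w j) (i j))))), ?_⟩
    rw [G.tt_quad C j le_rfl (RGD.Sup_mono (nw_sub (G.sb.fix j))), ← smul_sub, add_sub_cancel_left]
    refine Submodule.smul_mem _ _ (Submodule.sum_mem _ fun y hy => ?_)
    obtain ⟨K, hl, hr, hK⟩ := G.sb.par j
    obtain ⟨v, hv, hz⟩ := (mem_LJ R).1 (G.conj_LJ hl hr y.2)
    rcases G.key C hz.cell with h0 | ⟨a, c, e, h1⟩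
    · rw [h0]
      exact zero_mem _
    · rw [e]
      refine Submodule.smul_mem _ _ (Submodule.subset_span ⟨a, G.descent hr hK ?_ fun h2 => ?_, rfl⟩)
      · rcases h1 with rfl | rfl
        · exact hv
        · exact (mul_mem_cancel_right (show cs.simple l ∈ WJ cs K from Subgroup.subset_closure ⟨l, hl, rfl⟩)).1 hv
      · have h3 : v ∈ WJ cs {l} := by
          rw [show a.1.1 = 1 from h2, map_one, one_mul] at h1
          exact Bldg.mem_WJ_singleton.2 h1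
        have h4 := eq_one_of_mem_VNJ_of_mem_PJ R (G.conj_VN y.2) ((cell_mem_PJ_iff R hz.cell).2 h3)
        refine (Finset.mem_erase.1 hy).1 (Subtype.ext ?_)
        rwa [mul_inv_eq_one, mul_eq_left] at h4
  span x := by
    induction x using al_induction with
    | hd y =>
      obtain ⟨v, hv⟩ := (mem_GG R).1 (show y ∈ GG cs h T X by rw [G.nd.top]; exact Subgroup.mem_top y)
      rcases G.key C hv with h0 | ⟨a, c, e, -⟩
      · rw [h0]
        exact zero_mem _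
      · rw [e]
        exact Submodule.smul_mem _ _ (Submodule.subset_span ⟨a, rfl⟩)
    | ha a b ha hb => rw [mul_add, add_mul]; exact add_mem ha hb
    | hs c a ha => rw [mul_smul_comm, smul_mul_assoc]; exact Submodule.smul_mem _ c ha
  tr0 a ha := by
    rw [AH.trace_mulLeft, ← G.tt_eq C]
    exact mul_eq_zero_of_right _ (coeff_su (G.tt_su C rfl) (G.tt_su C rfl) fun h1 => ha (G.eq_one_of_mem_P h1))

theorem dat_t (a : G.Np) : (G.dat C).t a = G.tt f a := rfl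

theorem dat_pi (a : G.Np) : (G.dat C).π a = a.1.1 := rfl

theorem dat_n (j : J) : (G.dat C).n j = G.nn j := rfl

end Gd

end Cfsg.Agent.ODD.PS.C3
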