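import Cfsg.Agent.ODD.PS.C3H2
import Cfsg.Agent.ODD.AH.Main
import Cfsg.Agent.Classification.BSW.Theta

/-!
# ODD / GAL: `PSp_{2n}(q)`, `q ≡ 3 mod 4`: weights (helper6)

* `exists_fix_odd` : an involution fixes a weight of odd multiplicity (any abstract Hecke datum);
* `Gd.res`, `Gd.exists_ext` : the weights of the second series are restrictions of characters of `T`;
* `Gd.sq_mem` : the squares of the stabiliser are in the group generated by the good reflections.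
-/

set_option autoImplicit false
set_option linter.unusedSectionVars false

open Cfsg

namespace Cfsg.Agent.ODD.PS.C3

open CoxeterSystem Cfsg.Agent.ChevalleyStructure.CoxeterGeom Cfsg.Agent.Tits.Roots Cfsg.Agent.Tits.Core
  Cfsg.Agent.Nodes.Reps Cfsg.Agent.Nodes.BNOf Cfsg.Agent.Nodes.Bruhat Cfsg.Agent.Nodes.StabComb
  Cfsg.Agent.Nodes.SubComb Cfsg.Agent.Nodes.LeviDec Cfsg.Agent.Nodes.NormalForm Cfsg.Agent.Nodes.OppDec
  Cfsg.Agent.H684.OQ Cfsg.Agent.H670 Cfsg.Agent.H381.OQ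

section generic

variable {I W : Type} [Group W] {M : CoxeterMatrix I} {cs : CoxeterSystem M W} {N : Type} [Group N] [Finite N]
  {Y : Type} [Group Y] [Finite Y] (D : AH.Dat cs N (Al Y))

theorem sum_E [Fintype D.Wt] : ∑ ν : D.Wt, D.E ν = D.t 1 := by
  classical
  have := Fintype.ofFinite D.π.ker
  have hc : ∀ a b : D.π.ker, a * b = b * a := fun a b => Subtype.ext (D.comm _ _ a.2 b.2)
  simp only [D.E_def]
  rw [← Finset.smul_sum, Finset.sum_comm]
  simp only [← Finset.sum_smul, ← map_inv, Classification.BSW.Theta.sum_hom_apply hc, inv_eq_one]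
  rw [Finset.sum_eq_single 1, if_pos rfl, smul_smul, inv_mul_cancel₀ D.card_ne, one_smul]
  · rfl
  · intro b _ hb
    rw [if_neg hb, zero_smul]
  · intro h1
    exact absurd (Finset.mem_univ _) h1

theorem exists_mult {χ : Y → ℂ} (hχ : IsCharacter Y χ) :
    ∃ m : D.Wt → ℕ, (∀ ν, lin χ (D.E ν) = m ν) ∧ ∀ a ν, m (D.act a ν) = m ν := by
  obtain ⟨k, ρ, rfl⟩ := hχ
  have h1 : ∀ a ν, Module.finrank ℂ (LinearMap.range (ρ.asAlgebraHom (D.E ν))) ≤
      Module.finrank ℂ (LinearMap.range (ρ.asAlgebraHom (D.E (D.act a ν)))) := fun a ν => by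
    obtain ⟨y, hy⟩ := D.exists_inv a
    have e : D.E ν = y * (D.E (D.act a ν) * D.t a) := by rw [← D.t_E, ← mul_assoc, hy, D.one_mul_E]
    rw [e, map_mul, map_mul, Module.End.mul_eq_comp, LinearMap.range_comp]
    exact (Submodule.finrank_map_le _ _).trans (Submodule.finrank_mono (LinearMap.range_comp_le_range _ _))
  refine ⟨fun ν => Module.finrank ℂ (LinearMap.range (ρ.asAlgebraHom (D.E ν))), fun ν => ?_, fun a ν => ?_⟩
  · rw [AH.lin_character]
    exact ((LinearMap.isProj_range_iff_isIdempotentElem _).2 (by rw [IsIdempotentElem, ← map_mul, D.E_mul_E])).trace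
  · refine le_antisymm ?_ (h1 a ν)
    have h2 := h1 a⁻¹ (D.act a ν)
    rwa [← D.act_mul, inv_mul_cancel, D.act_one] at h2

/-- an involution fixes a weight of odd multiplicity -/
theorem exists_fix_odd {χ : Y → ℂ} (hχ : IsCharacter Y χ) {a : N} (ha : D.π (a * a) = 1) (S : D.Wt → Prop)
    (hS : ∀ ν, S ν → S (D.act a ν)) {z : Al Y} (h1 : ∀ ν, S ν → D.E ν * z = D.E ν) (h0 : ∀ ν, ¬ S ν → D.E ν * z = 0)
    (hodd : ∃ d : ℕ, Odd d ∧ lin χ (D.t 1 * z) = d) :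
    ∃ ν, S ν ∧ D.act a ν = ν ∧ ∃ m : ℕ, Odd m ∧ lin χ (D.E ν) = m := by
  classical
  let _ : CommGroup D.π.ker :=
    { (inferInstance : Group D.π.ker) with mul_comm := fun a b => Subtype.ext (D.comm _ _ a.2 b.2) }
  have hfin : Finite D.Wt := by
    obtain ⟨e⟩ := CommGroup.monoidHom_mulEquiv_of_hasEnoughRootsOfUnity D.π.ker ℂ
    exact Finite.of_equiv _ e.symm.toEquiv
  have := Fintype.ofFinite D.Wt
  obtain ⟨m, hm, hact⟩ := exists_mult D hχ
  obtain ⟨d, hd, e⟩ := hodd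
  have hinv : ∀ ν, D.act a (D.act a ν) = ν := fun ν => by rw [← D.act_mul, D.act_ker ha]
  have hS' : ∀ ν, S (D.act a ν) ↔ S ν := fun ν => ⟨fun h => hinv ν ▸ hS _ h, hS ν⟩
  have h2 : ∀ ν, lin χ (D.E ν * z) = ((if S ν then m ν else 0 : ℕ) : ℂ) := fun ν => by
    split_ifs with h
    · rw [h1 ν h, hm]
    · rw [h0 ν h, map_zero, Nat.cast_zero]
  rw [← sum_E, Finset.sum_mul, map_sum, Finset.sum_congr rfl fun ν _ => h2 ν, ← Nat.cast_sum, Nat.cast_inj] at e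
  by_contra hcon
  push Not at hcon
  have h3 : ∑ ν : D.Wt, ((if S ν then m ν else 0 : ℕ) : ZMod 2) = 0 := by
    refine Finset.sum_involution (fun ν _ => D.act a ν) (fun ν _ => ?_) (fun ν _ h4 h5 => h4 ?_)
      (fun _ _ => Finset.mem_univ _) fun ν _ => hinv ν
    · rw [hact, if_congr (hS' ν) rfl rfl]
      exact CharTwo.add_self_eq_zero _
    · split_ifs with h
      · exact (ZMod.natCast_eq_zero_iff_even).2 (Nat.not_odd_iff_even.1 fun h6 => hcon ν h h5 _ h6 (hm ν))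
      · exact Nat.cast_zero
  rw [← Nat.cast_sum, e, ZMod.natCast_eq_zero_iff_even] at h3
  exact Nat.not_even_iff_odd.2 hd h3

end generic

variable {I W Y : Type} [Fintype I] [DecidableEq I] [Group W] [Finite W] [Group Y] [Finite Y]
  {M : CoxeterMatrix I} {cs : CoxeterSystem M W} {A : I → I → ℤ} {h : IsCartan M A} {p : ℕ} {T : Subgroup Y}
  {n : I → Y} {X : (I → ℤ) → Subgroup Y} {R : RGD cs h p T n X} {F : Type} [Field F] [Fintype F] {l : I}
  {Φ : S2 F →* Y} {AT : I → I → ℤ} {hT : IsCartan M AT} {J W' : Type} [Fintype J] [DecidableEq J] [Group W']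
  [Finite W'] {M' : CoxeterMatrix J} {cs' : CoxeterSystem M' W'} {A' : J → J → ℤ} {h' : IsCartan M' A'}
  {β : J → I → ℤ} {w : J → W} {i : J → I} {g : J → Y}

theorem tor_neg_mem : Φ (SL2.tor (-1)) ∈ CS Φ := mem_CS.2 fun s => by
  rw [← map_mul, ← map_mul]
  congr 1
  apply SL2.ext4 <;> simp [SL2.mul00, SL2.mul01, SL2.mul10, SL2.mul11, SL2.tor00, SL2.tor01, SL2.tor10, SL2.tor11]

namespace Nd

variable (N : Nd R l Φ)

include N

theorem sq_of_mem {u : Fˣ} (hu : Φ (SL2.tor u) ∈ CS Φ) : u ^ 2 = 1 := by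
  have h1 := mem_CS.1 hu (SL2.x 1)
  rw [← map_mul, ← map_mul, SL2.tor_mul_x, map_mul, map_mul, mul_left_inj, mul_one] at h1
  have h2 : Φ (SL2.x ((u : F) ^ 2 - 1)) = 1 := by
    have h3 : SL2.x ((u : F) ^ 2) = SL2.x ((u : F) ^ 2 - 1) * SL2.x 1 := by
      rw [← SL2.data_X, ← SL2.data_X, ← SL2.data_X, ← (SL2.data F).X_add, sub_add_cancel]
    rwa [h3, map_mul, right_eq_mul] at h1
  exact Units.ext (by rw [Units.val_pow_eq_pow_val, Units.val_one]; exact sub_eq_zero.1 (N.inj _ h2))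

/-- the projection of `T` on the centraliser of the image of `Φ` -/
theorem exists_pr (h4 : Fintype.card F % 4 = 3) : ∃ π : ↥T →* ↥(T ⊓ CS Φ),
    (∀ k (hk : k ∈ T ⊓ CS Φ), π ⟨k, hk.1⟩ = ⟨k, hk⟩) ∧ ∀ u, π ⟨Φ (SL2.tor u), N.tor u⟩ ^ 2 = 1 := by
  classical
  have hns : ¬ IsSquare (-1 : F) := fun h1 => FiniteField.isSquare_neg_one_iff.1 h1 h4
  have hch : ringChar F ≠ 2 := fun h1 => by
    have := FiniteField.even_card_iff_char_two.1 h1
    omega
  obtain ⟨π, h1, h2⟩ := exists_proj (P := T) (V := (Φ.comp (SL2.tor.comp (powMonoidHom 2))).range) (K := T ⊓ CS Φ)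
    inf_le_left (by rintro _ ⟨u, rfl⟩; exact N.tor _) (fun k hk => Subgroup.centralizer_le_normalizer _ (by
      rintro _ ⟨u, rfl⟩
      exact mem_CS.1 hk.2 _)) (fun t ht => by
      obtain ⟨u, hu⟩ := N.dec t ht
      have h3 : t * (Φ (SL2.tor u))⁻¹ ∈ T ⊓ CS Φ := ⟨T.mul_mem ht (T.inv_mem (N.tor u)), hu⟩
      have h5 : t = Φ (SL2.tor u) * (t * (Φ (SL2.tor u))⁻¹) := by rw [N.comm _ (N.tor u) _ h3.1, inv_mul_cancel_right]
      by_cases h6 : IsSquare (u : F)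
      · obtain ⟨r, hr⟩ := h6
        have h7 : r ≠ 0 := fun h0 => u.ne_zero (by rw [hr, h0, mul_zero])
        refine ⟨_, ⟨Units.mk0 r h7, ?_⟩, _, h3, h5⟩
        exact congrArg (fun v => Φ (SL2.tor v)) (Units.ext (by simp [hr, pow_two]))
      · have h7 : IsSquare (-(u : F)) := by
          have h8 := quadraticChar_neg_one_iff_not_isSquare.2 h6
          have h9 := quadraticChar_neg_one_iff_not_isSquare.2 hns
          refine (quadraticChar_one_iff_isSquare (neg_ne_zero.2 u.ne_zero)).1 ?_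
          rw [← neg_one_mul, map_mul, h8, h9]
          norm_num
        obtain ⟨r, hr⟩ := h7
        have h8 : r ≠ 0 := fun h0 => neg_ne_zero.2 u.ne_zero (by rw [hr, h0, mul_zero])
        refine ⟨Φ (SL2.tor (-u)), ⟨Units.mk0 r h8, ?_⟩, _, mul_mem ⟨N.tor (-1), tor_neg_mem⟩ h3, ?_⟩
        · exact congrArg (fun v => Φ (SL2.tor v)) (Units.ext (by simp [hr, pow_two]))
        · rw [← mul_assoc, ← map_mul, ← map_mul, mul_neg, mul_one, neg_neg]
          exact h5) (by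
      rintro _ hk ⟨u, rfl⟩
      have h3 : (u ^ 2) ^ 2 = 1 := N.sq_of_mem hk.2
      have h5 : ((u : F) ^ 2) ^ 2 = 1 := by simpa using congrArg Units.val h3
      rcases sq_eq_one_iff.1 h5 with h6 | h6
      · have h7 : u ^ 2 = 1 := Units.ext (by simpa using h6)
        show Φ (SL2.tor (u ^ 2)) = 1
        rw [h7, map_one, map_one]
      · exact absurd ⟨u, by rw [← h6, pow_two]⟩ hns)
  refine ⟨π, h1, fun u => ?_⟩
  rw [← map_pow, ← h2 _ ⟨u, rfl⟩]
  congr 1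
  exact Subtype.ext (by simp)

theorem cj_of {lam : ↥T →* ℂˣ} {v : W} {k : Y} (hk : Rp cs R.nsys v k)
    (h1 : ∀ t (ht : t ∈ T), t ∈ CS Φ → lam ⟨t, ht⟩ = lam ⟨k⁻¹ * t * k, conj_T' R hk ht⟩)
    (h2 : ∀ u, lam ⟨_, N.tor u⟩ = lam ⟨k⁻¹ * Φ (SL2.tor u) * k, conj_T' R hk (N.tor u)⟩) : Cj T lam lam k := by
  intro t ht ht'
  obtain ⟨u, hu⟩ := N.dec t ht
  have h3 := mul_mem ht (inv_mem (N.tor u))
  have e1 : (⟨t, ht⟩ : ↥T) = ⟨_, h3⟩ * ⟨_, N.tor u⟩ := Subtype.ext (inv_mul_cancel_right _ _).symm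
  rw [e1, map_mul, h1 _ h3 hu, h2, ← map_mul]
  congr 1
  apply Subtype.ext
  simp only [MulMemClass.mk_mul_mk]
  group

theorem wel_mem {lam : ↥T →* ℂˣ} (hl : ∀ u, lam ⟨_, N.tor u⟩ ^ 2 = 1) : cs.simple l ∈ Wst R lam := by
  refine inv_mem_iff.1 ⟨_, N.wel.inv, N.cj_of N.wel.inv (fun t ht hc => ?_) fun u => ?_⟩
  · congr 2
    rw [inv_inv, mem_CS.1 hc, mul_inv_cancel_right]
  · have e : (⟨_, conj_T' R N.wel.inv (N.tor u)⟩ : ↥T) = (⟨_, N.tor u⟩ : ↥T)⁻¹ := Subtype.ext (by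
      show (Φ SL2.wel)⁻¹⁻¹ * Φ (SL2.tor u) * (Φ SL2.wel)⁻¹ = (Φ (SL2.tor u))⁻¹
      rw [inv_inv, ← map_mul, SL2.wel_mul_tor, map_mul, mul_inv_cancel_right, map_inv, map_inv])
    rw [e, map_inv, eq_inv_iff_mul_eq_one, ← pow_two, hl]

end Nd

namespace Gd

variable (G : Gd R hT l Φ cs' h' β w i g) {f : Al (S2 F)} {φ : Multiplicative F →* ℂˣ} (C : Cusp f φ)

include G C

/-- the weight of a character of `T` -/
noncomputable def res (lam : ↥T →* ℂˣ) : (G.dat C).Wt :=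
  lam.comp (((MonoidHom.snd W' Y).comp (G.Np.subtype.comp (G.dat C).π.ker.subtype)).codRestrict T
    fun a => G.mem_T a.2)

theorem res_apply (lam : ↥T →* ℂˣ) (a : (G.dat C).π.ker) : G.res C lam a = lam ⟨a.1.1.2, G.mem_T a.2⟩ := rfl

theorem act_res (a : G.Np) (lam : ↥T →* ℂˣ) :
    (G.dat C).act a (G.res C lam) = G.res C (cjl a.2.1.mem_normalizer lam) := by
  ext b
  rw [AH.Dat.act_apply]
  rfl

theorem exists_ext (h4 : Fintype.card F % 4 = 3) (ν : (G.dat C).Wt) :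
    ∃ lam : ↥T →* ℂˣ, G.res C lam = ν ∧ ∀ u, lam ⟨_, G.nd.tor u⟩ ^ 2 = 1 := by
  obtain ⟨π, h1, h2⟩ := G.nd.exists_pr h4
  let κ : ↥(T ⊓ CS Φ) →* (G.dat C).π.ker :=
    { toFun := fun t => ⟨G.kt t.2.1 t.2.2, rfl⟩
      map_one' := rfl
      map_mul' := fun a b => Subtype.ext (Subtype.ext (Prod.ext (mul_one _).symm rfl)) }
  refine ⟨ν.comp (κ.comp π), ?_, fun u => ?_⟩
  · refine MonoidHom.ext fun a => ?_
    rw [res_apply, MonoidHom.comp_apply, MonoidHom.comp_apply, h1 _ ⟨G.mem_T a.2, a.1.2.2⟩]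
    exact congrArg ν (Subtype.ext (Subtype.ext (Prod.ext (Eq.symm a.2) rfl)))
  · rw [MonoidHom.comp_apply, MonoidHom.comp_apply, ← map_pow, ← map_pow, h2, map_one, map_one]

theorem ph_mem {lam : ↥T →* ℂˣ} {a : G.Np} (ha : a ∈ (G.dat C).Nl (G.res C lam)) : G.ph a.1.1 ∈ Wst R lam := by
  refine ⟨_, a.2.1, G.nd.cj_of a.2.1 (fun t ht hc => ?_) fun u => ?_⟩
  · have h1 := DFunLike.congr_fun ((G.act_res C a lam).symm.trans ha) ⟨G.kt ht hc, rfl⟩
    exact h1.symm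
  · congr 2
    rw [mul_assoc, mem_CS.1 a.2.2, inv_mul_cancel_left]

theorem t1_mul_dl {u : Y} (hu : u ∈ VV cs h X l) : G.tt f 1 * dl u = G.tt f 1 := by
  rw [tt_one, ← G.nd.mp_comm, mul_assoc, eV_mul_dl hu]

theorem dl_mul_t1 {u : Y} (hu : u ∈ VV cs h X l) : dl u * G.tt f 1 = G.tt f 1 := by
  rw [tt_one, ← mul_assoc, dl_mul_eV hu]

/-- the short nodes -/
theorem g0_short {j : J} (hj : w j = 1) {mu : ↥T →* ℂˣ} (hz : zet R (i j) mu ≠ 0)
    (hE : (G.dat C).E (G.res C mu) ≠ 0) : (G.dat C).G0 (G.res C mu) j := by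
  classical
  let _ := Fintype.ofFinite ↥(X (sr (i j)))
  obtain ⟨hg, hX⟩ := G.sh j hj
  have hr : rfl' cs (w j) (i j) = cs.simple (i j) := by rw [rfl', hj, one_mul, inv_one, mul_one]
  have hV : X (sr (i j)) ≤ VV cs h X l := by
    have h1 := G.beta_mem j
    rw [G.sb.sys.eq, hj, map_one, Module.End.one_apply] at h1
    exact RGD.le_Sup h1
  have h1 := G.tt_quad C j (Q := X (sr (i j))) (RGD.Sup_le fun x hx => by
    by_cases e : x = sr (i j)
    · rw [e]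
    · have h2 := hx.2.2
      rw [hr] at h2
      exact absurd h2 ((hx.1.act _).not_pos_neg (hx.1.simple_nonneg hx.2.1 _ e))) hV
  have h2 : (G.dat C).act (G.nn j) (G.res C mu) = G.res C mu := by
    rw [act_res]
    congr 1
    refine Eq.trans ?_ (cjl_of_zet R G.nd.comm hz)
    ext t
    simp only [cjl, MonoidHom.comp_apply, MonoidHom.coe_mk, OneHom.coe_mk, nn, hg]
  refine AH.Dat.g0_of hE (k := (Nat.card (X (sr (i j))) : ℂ)⁻¹) (s := (Nat.card (X (sr (i j))) : ℂ)⁻¹ * zet R (i j) mu)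
    (mul_ne_zero (inv_ne_zero (card_ne _)) hz) ?_
  rw [dat_t, dat_t, dat_n, h1, smul_mul_assoc, add_mul, ← smul_smul, ← smul_add, ← G.dat_t C, AH.Dat.one_mul_E,
    Finset.sum_mul]
  refine congrArg _ (congrArg _ ?_)
  unfold zet
  rw [← Finset.add_sum_erase _ _ (Finset.mem_univ 1), if_pos (Subgroup.coe_one _), zero_add, Finset.sum_smul]
  refine Finset.sum_congr rfl fun y hy => ?_
  have hy1 : (y : Y) ≠ 1 := fun e => (Finset.mem_erase.1 hy).1 (Subtype.ext e)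
  obtain ⟨ht, a, ha, b, hb, e⟩ := tx_spec R y.2 hy1
  have hn : n (i j) ∈ CS Φ := hg ▸ G.cen j
  have hc : tx R (i j) y ∈ CS Φ := by
    have e2 : tx R (i j) y = a⁻¹ * (n (i j) * y * (n (i j))⁻¹) * b⁻¹ * (n (i j))⁻¹ := by rw [e]; group
    rw [e2]
    exact mul_mem (mul_mem (mul_mem (inv_mem (hX ha)) (mul_mem (mul_mem hn (hX y.2)) (inv_mem hn)))
      (inv_mem (hX hb))) (inv_mem hn)
  have h3 : G.tt f 1 * dl (g j * y * (g j)⁻¹) * G.tt f 1 = G.tt f (G.kt ht hc * G.nn j) := by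
    rw [← G.tt_eq C (_ * _), hg, e, mul_assoc a, dl_mul, dl_mul a, ← mul_assoc, ← mul_assoc, G.t1_mul_dl C (hV ha),
      mul_assoc _ (dl b), G.dl_mul_t1 C (hV hb), ← hg]
    rfl
  rw [if_neg hy1, dat_t, h3, G.tt_left C _ _ rfl, mul_assoc, ← G.dat_t C, ← G.dat_t C, AH.Dat.t_E, h2, ← mul_assoc,
    (G.dat C).t_mul_E _ ⟨G.kt ht hc, rfl⟩, smul_mul_assoc]
  rfl

/-- the squares of the stabiliser -/
theorem sq_mem {gg : I → Y} (K : Cor R hT 2 gg) {lam : ↥T →* ℂˣ} (hl : ∀ t, lam t ^ 2 = 1)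
    (hE : (G.dat C).E (G.res C lam) ≠ 0) {v : W'} (hv : v ∈ (G.dat C).Wl (G.res C lam)) :
    v * v ∈ (G.dat C).Rl (G.res C lam) := by
  obtain ⟨a, ha, rfl⟩ := hv
  obtain ⟨x, -, -, -, hx⟩ := K.exists_form two_pos hl
  refine Subgroup.closure_mono ?_ (G.sb.sq x _ fun y => ?_)
  · rintro r ⟨u, j, hj, rfl, h1⟩
    obtain ⟨b, hb⟩ := G.exists_np u⁻¹
    refine ⟨b, j, by rw [dat_pi, hb, inv_inv], ?_⟩
    have h2 := AH.Dat.E_act_ne hE b
    rw [act_res] at h2 ⊢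
    refine G.g0_short C hj (K.node _ _ (fun t => hl _) ?_) h2
    have h3 : Rp cs R.nsys (G.ph u) b.1.2⁻¹ := by
      have := b.2.1.inv
      rwa [hb, map_inv, inv_inv] at this
    have h4 := K.ev_rep _ (nu := cjl b.2.1.mem_normalizer lam) h3 hl (fun t ht ht' => by
      rw [cjl_apply _ _ ht' (conj_T' R b.2.1 ht')]
      congr 2
      group) (sr (i j))
    rw [K.ev_sr] at h4
    exact h4.trans ((hx _).2 h1)
  · rw [← map_sub]
    refine (hx _).1 ?_
    rw [map_sub, sub_eq_zero]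
    exact K.ev_fix hl (G.ph_mem C ha) y

end Gd

end Cfsg.Agent.ODD.PS.C3
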