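import Cfsg.Agent.ODD.PS.C3H3

/-!
# ODD / GAL: `PSp_{2n}(q)`, `q ≡ 3 mod 4`: the Whittaker vector and the second series (helper6)

* `Au R l Φ σ δ` : the pair `σ`, `δ` fixes the data;
* `Gd.fix2` : the second series; `Gd.fix_ps`, `Gd.fix1` : the principal series.
-/

set_option autoImplicit false
set_option linter.unusedSectionVars false

open Cfsg

namespace Cfsg.Agent.ODD.PS.C3

open CoxeterSystem Cfsg.Agent.ChevalleyStructure.CoxeterGeom Cfsg.Agent.Tits.Roots Cfsg.Agent.Tits.Core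
  Cfsg.Agent.Nodes.Reps Cfsg.Agent.Nodes.BNOf Cfsg.Agent.Nodes.Bruhat Cfsg.Agent.Nodes.StabComb
  Cfsg.Agent.Nodes.SubComb Cfsg.Agent.Nodes.LeviDec Cfsg.Agent.Nodes.NormalForm Cfsg.Agent.Nodes.OppDec
  Cfsg.Agent.H684.OQ Cfsg.Agent.H670 Cfsg.Agent.H381.OQ

variable {I W Y : Type} [Fintype I] [DecidableEq I] [Group W] [Finite W] [Group Y] [Finite Y]
  {M : CoxeterMatrix I} {cs : CoxeterSystem M W} {A : I → I → ℤ} {h : IsCartan M A} {p : ℕ} {T : Subgroup Y}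
  {n : I → Y} {X : (I → ℤ) → Subgroup Y} {R : RGD cs h p T n X} {F : Type} [Field F] [Fintype F] {l : I}
  {Φ : S2 F →* Y} {AT : I → I → ℤ} {hT : IsCartan M AT} {J W' : Type} [Fintype J] [DecidableEq J] [Group W']
  [Finite W'] {M' : CoxeterMatrix J} {cs' : CoxeterSystem M' W'} {A' : J → J → ℤ} {h' : IsCartan M' A'}
  {β : J → I → ℤ} {w : J → W} {i : J → I} {g : J → Y}

/-- `σ` and `δ` fix the data -/
structure Au (R : RGD cs h p T n X) (l : I) (Φ : S2 F →* Y) (σ : ℂ ≃+* ℂ) (δ : Y ≃* Y) : Prop where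
  fixT : ∀ t ∈ T, δ t = t
  mapU : ∀ u ∈ UU cs h X, δ u ∈ UU cs h X
  mapV : ∀ u ∈ VV cs h X l, δ u ∈ VV cs h X l
  mapX : ∀ u ∈ X (sr l), δ u ∈ X (sr l)
  mapN : ∀ v k, Rp cs R.nsys v k → k⁻¹ * δ k ∈ T
  psi : ∃ psi : ↥(UU cs h X) →* ℂˣ, Nondeg psi ∧
    ∀ u (hu : u ∈ UU cs h X), ((psi ⟨δ u, mapU u hu⟩ : ℂˣ) : ℂ) = σ (psi ⟨u, hu⟩ : ℂˣ)
  sl2 : ∃ d : S2 F ≃* S2 F, (∀ s, δ (Φ s) = Φ (d s)) ∧
    ∀ ψ, IsIrrCharacter (S2 F) ψ → Odd (charDegree ψ) → ∀ s, ψ (d s) = σ (ψ s)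

theorem Au.mapC {σ : ℂ ≃+* ℂ} {δ : Y ≃* Y} (a : Au R l Φ σ δ) {k : Y} (hk : k ∈ CS Φ) : δ k ∈ CS Φ := by
  obtain ⟨d, hd, -⟩ := a.sl2
  refine mem_CS.2 fun s => ?_
  rw [← d.apply_symm_apply s, ← hd, ← map_mul, mem_CS.1 hk, map_mul]

theorem Au.tw_eV {σ : ℂ ≃+* ℂ} {δ : Y ≃* Y} (a : Au R l Φ σ δ) : AH.tw σ δ (eV cs h X l) = eV cs h X l :=
  tw_av σ δ _ a.mapV fun _ _ => by simp

theorem neg_sq {v : W} (hv : ∀ a, rep cs h v a = -a) : v * v = 1 :=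
  rep_injective cs h (LinearMap.ext fun y => by rw [rep_mul_apply, hv, hv, neg_neg, map_one, Module.End.one_apply])

theorem neg_comm {v : W} (hv : ∀ a, rep cs h v a = -a) (x : W) : v * x = x * v :=
  rep_injective cs h (LinearMap.ext fun y => by rw [rep_mul_apply, rep_mul_apply, hv, hv, map_neg])

theorem neg_cases {v : W} (hv : ∀ a, rep cs h v a = -a) {u : W}
    (hu : ∀ k, rep cs h u (sr k) ∉ RGD.PosNe cs h l) : u = v ∨ (cs.simple l)⁻¹ * u = v := by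
  have key : ∀ u : W, (∀ k, rep cs h u (sr k) ≤ 0) → u = v := fun u hu =>
    mul_left_cancel (a := v) ((eq_one_of_nonneg cs h _ fun k => by
      rw [rep_mul_apply, hv]
      exact neg_nonneg.2 (hu k)).trans (neg_sq hv).symm)
  have h1 : ∀ k, rep cs h u (sr k) = sr l ∨ rep cs h u (sr k) ≤ 0 := fun k => by
    rcases ((isRoot_sr cs h k).act u).pos_or_neg with h2 | h2
    · exact Or.inl (by_contra fun h3 => hu k ⟨(isRoot_sr cs h k).act u, h2, h3⟩)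
    · exact Or.inr h2
  by_cases h2 : ∃ k, rep cs h u (sr k) = sr l
  · obtain ⟨k₀, hk₀⟩ := h2
    refine Or.inr (key _ fun k => ?_)
    rw [cs.inv_simple, rep_mul_apply]
    rcases h1 k with h3 | h3
    · rw [h3, rep_simple_sr]
      exact neg_nonpos.2 (sr_nonneg l)
    · have h4 := ((isRoot_sr cs h k).act u).neg.simple_nonneg (neg_nonneg.2 h3) l fun e => by
        rw [← hk₀, ← map_neg] at e
        have h5 := rep_injective_apply cs h u e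
        exact (isRoot_sr cs h k₀).not_pos_neg (sr_nonneg k₀) (by rw [← h5]; exact neg_nonpos.2 (sr_nonneg k))
      rwa [map_neg, neg_nonneg] at h4
  · exact Or.inl (key u fun k => (h1 k).resolve_left fun e => h2 ⟨k, e⟩)

/-- the restriction to the root group -/
def psiL (l : I) (psi : ↥(UU cs h X) →* ℂˣ) : ↥(X (sr l)) →* ℂˣ := psi.comp (Subgroup.inclusion (X_le_U l))

/-- the restriction to `V` -/
def psiV (l : I) (psi : ↥(UU cs h X) →* ℂˣ) : ↥(VV cs h X l) →* ℂˣ := psi.comp (Subgroup.inclusion (V_le_U l))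

variable (R) in
include R in
theorem av_psi (psi : ↥(UU cs h X) →* ℂˣ) : av psi = av (psiL l psi) * av (psiV l psi) := by
  have h1 : av psi * av (psiL l psi) = av psi := mul_av_eq _ fun u => av_mul_dl psi ⟨u, X_le_U l u.2⟩
  have h2 : av psi * av (psiV l psi) = av psi := mul_av_eq _ fun u => av_mul_dl psi ⟨u, V_le_U l u.2⟩
  have h3 : av (psiL l psi) * av (psiV l psi) = av (psiV l psi) * av (psiL l psi) := by
    have := Fintype.ofFinite ↥(X (sr l))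
    rw [av_def (psiL l psi), smul_mul_assoc, mul_smul_comm, Finset.sum_mul, Finset.mul_sum]
    refine congrArg _ (Finset.sum_congr rfl fun x _ => ?_)
    rw [smul_mul_assoc, mul_smul_comm, dl_comm_av _ (R.X_le_normalizer_V l x.2) fun u hu => ?_]
    have e : Subgroup.inclusion (V_le_U l) ⟨_, hu⟩ = (⟨x, X_le_U l x.2⟩ : ↥(UU cs h X)) *
      Subgroup.inclusion (V_le_U l) u * (⟨x, X_le_U l x.2⟩ : ↥(UU cs h X))⁻¹ := rfl
    rw [psiV, MonoidHom.comp_apply, e, map_mul, map_mul, map_inv, mul_inv_cancel_comm, MonoidHom.comp_apply]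
  rw [← av_mul_eq psi (b := av (psiL l psi) * av (psiV l psi)) fun u => ?_, ← mul_assoc, h1, h2]
  obtain ⟨v, hv, x, hx, e⟩ := exists_vx R l u.2
  have e2 : u = ⟨v, V_le_U l hv⟩ * ⟨x, X_le_U l hx⟩ := Subtype.ext e
  rw [e, dl_mul, mul_assoc, ← mul_assoc (dl x), dl_mul_av (psiL l psi) ⟨x, hx⟩, smul_mul_assoc, mul_smul_comm, h3,
    ← mul_assoc, dl_mul_av (psiV l psi) ⟨v, hv⟩, smul_mul_assoc, smul_smul, e2, map_mul, Units.val_mul, mul_comm]
  rfl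

variable (R) in
theorem kill_psi {psi : ↥(UU cs h X) →* ℂˣ} (hpsi : Nondeg psi) {u : W} {k : Y} (hk : Rp cs R.nsys u k) {j : I}
    (hj : rep cs h u (sr j) ∈ RGD.PosNe cs h l) : eV cs h X l * dl k * av psi = 0 := by
  obtain ⟨x, hx, hne⟩ := hpsi j
  have h1 : k * x * k⁻¹ ∈ VV cs h X l := RGD.le_Sup hj (R.conj_mem hk (isRoot_sr cs h j) hx)
  have e : dl k * dl x = dl (k * x * k⁻¹) * dl k := by rw [← dl_mul, ← dl_mul]; congr 1; group
  have h2 : (((psi ⟨x, X_le_U j hx⟩ : ℂˣ) : ℂ) - 1) • (eV cs h X l * dl k * av psi) = 0 := by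
    rw [sub_smul, one_smul, ← mul_smul_comm, ← u_mul_av (X_le_U j hx), ← mul_assoc, mul_assoc _ (dl k), e, ← mul_assoc,
      eV_mul_dl h1, sub_self]
  exact (smul_eq_zero.1 h2).resolve_left fun h3 => hne (Units.val_eq_one.1 (sub_eq_zero.1 h3))

theorem Cusp.mul_eph {f : Al (S2 F)} {φ : Multiplicative F →* ℂˣ} (C : Cusp f φ) : f * eph φ = f := by
  obtain ⟨c, hc⟩ := C.one 1
  rw [dl_one, mul_one] at hc
  have h1 : f * eph φ * f = f := by rw [mul_assoc, C.left, C.idem]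
  rw [hc, smul_mul_assoc, C.idem] at h1
  rw [hc, h1]

theorem lin_idem {χ : Y → ℂ} (hχ : IsCharacter Y χ) {e : Al Y} (he : e * e = e) : ∃ m : ℕ, lin χ e = m := by
  obtain ⟨k, ρ, rfl⟩ := hχ
  rw [AH.lin_character]
  exact ⟨_, ((LinearMap.isProj_range_iff_isIdempotentElem _).2 (by rw [IsIdempotentElem, ← map_mul, he])).trace⟩

namespace Gd

variable (G : Gd R hT l Φ cs' h' β w i g)

include G

theorem exists_y {v : W} (hv : ∀ a, rep cs h v a = -a) : ∃ y : G.Np, G.ph y.1.1 * cs.simple l = v := by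
  obtain ⟨u, hu⟩ := G.sb.stab (v * cs.simple l) (by rw [rep_mul_apply, rep_simple_sr, hv, neg_neg])
  obtain ⟨y, rfl⟩ := G.exists_np u
  exact ⟨y, by rw [ph, hu, cs.simple_mul_simple_cancel_right]⟩

section whit

variable {psi : ↥(UU cs h X) →* ℂˣ} {f : Al (S2 F)} (C : Cusp f ((psiL l psi).comp G.nd.xl)) (ν : (G.dat C).Wt)

theorem E_mul_f : (G.dat C).E ν * mp Φ f = (G.dat C).E ν := by
  rw [← (G.dat C).E_mul_one ν, dat_t, tt_one, mul_assoc, mul_assoc, G.f_mul_f C]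

theorem E_mul_eV : (G.dat C).E ν * eV cs h X l = (G.dat C).E ν := by
  rw [← (G.dat C).E_mul_one ν, dat_t, tt_one, ← G.nd.mp_comm, mul_assoc, mul_assoc, eV_mul_eV]

theorem E_mul_t {t : Y} (ht : t ∈ T) (hc : t ∈ CS Φ) :
    (G.dat C).E ν * dl t = ((ν ⟨G.kt ht hc, rfl⟩ : ℂˣ) : ℂ) • (G.dat C).E ν := by
  rw [← (G.dat C).E_mul_t ν ⟨G.kt ht hc, rfl⟩, dat_t, tt, ← mul_assoc, ← mul_assoc, ← mul_assoc, E_mul_eV,
    mul_assoc _ (dl _), t_comm_eV R (show (G.kt ht hc).1.2 ∈ T from ht), ← mul_assoc, E_mul_eV, mul_assoc,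
    cs_comm (show (G.kt ht hc).1.2 ∈ CS Φ from hc), ← mul_assoc, E_mul_f]
  rfl

theorem span0 {y : G.Np} {k : Y} (hk : Rp cs R.nsys (G.ph y.1.1 * cs.simple l) k) (s : S2 F) :
    ∃ c : ℂ, (G.dat C).E ν * dl (Φ s * k) * av psi = c • ((G.dat C).E ν * dl y.1.2 * av psi) := by
  have h1 := (hk.inv.unique (y.2.1.mul G.nd.wel).inv)
  obtain ⟨u, hu⟩ := G.nd.dec _ h1
  have h2 := mul_mem h1 (inv_mem (G.nd.tor u))
  set t := k⁻¹⁻¹ * (y.1.2 * Φ SL2.wel)⁻¹ * (Φ (SL2.tor u))⁻¹ with ht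
  have e : Φ s * k = t * y.1.2 * Φ (s * SL2.tor u * SL2.wel) := by
    have h3 := mem_CS.1 (mul_mem hu y.2.2) s
    have h4 := mem_CS.1 y.2.2 (SL2.tor u)
    rw [map_mul, map_mul, ← mul_assoc, ← mul_assoc, ← h3, mul_assoc (Φ s), mul_assoc t, ← h4, ht]
    group
  obtain ⟨c, hc⟩ := C.one (s * SL2.tor u * SL2.wel)
  have h3 : av (psiL l psi) * av psi = av psi := av_mul_eq _ fun u => u_mul_av (X_le_U l u.2)
  have h4 : (G.dat C).E ν * dl y.1.2 = (G.dat C).E ν * dl y.1.2 * mp Φ f := by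
    rw [mul_assoc, cs_comm y.2.2, ← mul_assoc, E_mul_f]
  refine ⟨((ν ⟨G.kt h2 hu, rfl⟩ : ℂˣ) : ℂ) * c, ?_⟩
  rw [e, dl_mul, dl_mul, ← mul_assoc, ← mul_assoc, G.E_mul_t C ν h2 hu, smul_mul_assoc, smul_mul_assoc, smul_mul_assoc,
    ← smul_smul, h4, ← h3, ← G.nd.mp_eph, ← mul_assoc, ← mp_dl, mul_assoc _ (mp Φ f), mul_assoc _ (mp Φ f * _),
    ← map_mul, ← map_mul, hc, map_smul, mul_smul_comm, smul_mul_assoc, G.nd.mp_eph, h3]

theorem whit_span (hpsi : Nondeg psi) {v : W} (hv : ∀ a, rep cs h v a = -a) {y : G.Np}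
    (hy : G.ph y.1.1 * cs.simple l = v) (z : Al Y) :
    ∃ c : ℂ, (G.dat C).E ν * z * av psi = c • ((G.dat C).E ν * dl y.1.2 * av psi) := by
  induction z using al_induction with
  | hd z =>
    obtain ⟨u, hu⟩ := (mem_GG R).1 (show z ∈ GG cs h T X by rw [G.nd.top]; exact Subgroup.mem_top z)
    obtain ⟨a, ha, s, k, hk, b, hb, rfl⟩ := G.cell_dec hu
    suffices h1 : ∃ c : ℂ, (G.dat C).E ν * dl (Φ (SL2.x s) * k) * av psi =
        c • ((G.dat C).E ν * dl y.1.2 * av psi) by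
      obtain ⟨c, hc⟩ := h1
      refine ⟨((psi ⟨b, hb⟩ : ℂˣ) : ℂ) * c, ?_⟩
      rw [mul_assoc a, dl_mul, dl_mul a, ← G.E_mul_eV C ν, ← mul_assoc, ← mul_assoc, mul_assoc _ _ (dl a), eV_mul_dl ha,
        E_mul_eV, mul_assoc _ (dl b), u_mul_av hb, mul_smul_comm, hc, smul_smul]
    by_cases h1 : ∃ j, rep cs h u (sr j) ∈ RGD.PosNe cs h l
    · obtain ⟨j, hj⟩ := h1
      refine ⟨0, ?_⟩
      rw [zero_smul, ← G.E_mul_eV C ν, dl_mul, ← mul_assoc, mul_assoc _ (eV cs h X l), ← dl_comm_eV (G.nd.norm _),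
        ← mul_assoc, mul_assoc _ (eV cs h X l), mul_assoc _ (_ * dl k), kill_psi R hpsi hk hj, mul_zero]
    · rcases neg_cases hv (not_exists.1 h1) with h2 | h2
      · exact G.span0 C ν (by rwa [hy, ← h2]) _
      · have h3 := G.span0 C ν (y := y) (by rw [hy, ← h2]; exact G.nd.wel.inv.mul hk) (SL2.x s * SL2.wel)
        rwa [map_mul, mul_assoc (Φ _), mul_inv_cancel_left] at h3
  | ha a b ha hb =>
    obtain ⟨c, hc⟩ := ha
    obtain ⟨d, hd⟩ := hb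
    exact ⟨c + d, by rw [mul_add, add_mul, hc, hd, add_smul]⟩
  | hs c a ha =>
    obtain ⟨d, hd⟩ := ha
    exact ⟨c * d, by rw [mul_smul_comm, smul_mul_assoc, hd, smul_smul]⟩

theorem whit_ne (hE : (G.dat C).E ν ≠ 0) {v : W} (hv : ∀ a, rep cs h v a = -a) {y : G.Np}
    (hy : G.ph y.1.1 * cs.simple l = v) : (G.dat C).E ν * dl y.1.2 * av psi ≠ 0 := by
  classical
  intro h0
  have := Fintype.ofFinite ↥(VV cs h X l)
  have h1 : (G.dat C).E ν ∈ Su (PJ cs h T X {l}) := by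
    have := Fintype.ofFinite (G.dat C).π.ker
    rw [AH.Dat.E_def]
    exact Subalgebra.smul_mem _ (sum_mem fun a _ => Subalgebra.smul_mem _ (G.tt_su C a.2) _) _
  have h2 : ((G.dat C).E ν).coeff 1 ≠ 0 := fun h3 => by
    obtain ⟨d, hd, h4⟩ := AH.trace_idem ((G.dat C).E_mul_E ν)
    rw [AH.trace_mulLeft, h3, mul_zero] at hd
    exact hE (h4 (by exact_mod_cast hd.symm))
  rw [av_psi R (l := l), ← G.nd.mp_eph, ← mul_assoc, mul_assoc _ (dl _), cs_comm y.2.2, ← mul_assoc,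
    ← G.E_mul_f C ν, mul_assoc _ (mp Φ f), ← map_mul, C.mul_eph, E_mul_f] at h0
  have h3 := congrArg (fun a : Al Y => lin (fun y : Y => if y = 1 then (1 : ℂ) else 0) (a * dl y.1.2⁻¹)) h0
  simp only [zero_mul, map_zero] at h3
  rw [lin_av, Finset.sum_eq_single 1, map_one, inv_one, Units.val_one, one_smul, Subgroup.coe_one, dl_one, mul_one,
    mul_assoc, dl_mul_inv, mul_one, ← coeff_eq_lin, smul_eq_zero] at h3
  · exact h3.elim (inv_ne_zero (card_ne _)) h2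
  · intro u _ hu
    refine smul_eq_zero_of_right _ ?_
    rw [← coeff_eq_lin, mul_assoc, mul_assoc, ← dl_mul, ← dl_mul, ← mul_assoc, ← mul_one (_ * dl _)]
    refine coeff_su h1 (one_mem _) fun h4 => hu (Subtype.ext ?_)
    have h5 : y.1.2 * u * y.1.2⁻¹ ∈ VNJ cs h X {l} := by
      refine conj_mem_Sup R y.2.1 (S' := NotNJ cs h {l}) (fun x hx => hx.1) (fun x hx => ?_) u.2
      show -_ ∈ NotJ cs h {l}
      rw [posNe_eq] at hx
      rw [eq_mul_inv_of_mul_eq hy, cs.inv_simple, rep_mul_apply, hv, neg_neg]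
      exact NotJ.act (Subgroup.subset_closure ⟨l, Set.mem_singleton l, rfl⟩) hx
    have h6 := eq_one_of_mem_VNJ_of_mem_PJ R h5 h4
    rwa [mul_inv_eq_one, mul_eq_left] at h6
  · intro h4
    exact absurd (Finset.mem_univ _) h4

end whit

variable (hM : AH.Main) {gg : I → Y} (K : Cor R hT 0 gg) (hgen : T ≤ Subgroup.closure (Set.range gg))
  {σ : ℂ ≃+* ℂ} {δ : Y ≃* Y} (a : Au R l Φ σ δ) {χ : Y → ℂ} (hχ : IsIrrCharacter Y χ)

include hM K hgen a hχ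

/-- **the second series** -/
theorem fix2 (h4 : Fintype.card F % 4 = 3) {psi : ↥(UU cs h X) →* ℂˣ} (hpsi : Nondeg psi)
    (hδ : ∀ u (hu : u ∈ UU cs h X), ((psi ⟨δ u, a.mapU u hu⟩ : ℂˣ) : ℂ) = σ (psi ⟨u, hu⟩ : ℂˣ))
    {f : Al (S2 F)} (C : Cusp f ((psiL l psi).comp G.nd.xl)) (hf : AH.tw σ δ (mp Φ f) = mp Φ f)
    (hodd : ∃ d : ℕ, Odd d ∧ lin χ (eV cs h X l * mp Φ f) = d) (z : Y) : χ (δ z) = σ (χ z) := by
  obtain ⟨v, hv, hv'⟩ := G.sb.neg
  obtain ⟨y, hy⟩ := G.exists_y hv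
  have h1 : (G.dat C).π (y * y) = 1 := G.ph_injective (by
    show G.ph (y.1.1 * y.1.1) = _
    rw [map_mul, eq_mul_inv_of_mul_eq hy, cs.inv_simple, mul_assoc, ← mul_assoc (cs.simple l), ← neg_comm hv,
      cs.simple_mul_simple_cancel_right, neg_sq hv, map_one])
  obtain ⟨ν, -, h2, h3⟩ := exists_fix_odd (G.dat C) (Characters.Core.isIrr_isCharacter hχ) h1 (fun _ => True)
    (fun _ _ => trivial) (z := 1) (fun _ _ => mul_one _) (fun _ h => absurd trivial h)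
    (by rwa [mul_one, dat_t, tt_one])
  obtain ⟨lam, rfl, h5⟩ := G.exists_ext C h4 ν
  have h6 : v ∈ Wst R lam := hy ▸ mul_mem (G.ph_mem C h2) (G.nd.wel_mem h5)
  have hl : ∀ t, lam t ^ 2 = 1 := K.pow_of_gen hgen fun j => K.sq_of_neg (fun _ => pow_zero _) h6 (hv' _)
  have hE : (G.dat C).E (G.res C lam) ≠ 0 := fun h0 => by
    obtain ⟨m, hm, e⟩ := h3
    rw [h0, map_zero] at e
    exact hm.pos.ne (by exact_mod_cast e)
  have hsq := fun u => G.sq_mem C (K.mono (dvd_zero 2)) hl hE (v := u)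
  have ht : ∀ b : G.Np, ∃ c : (G.dat C).π.ker, AH.tw σ δ (G.tt f b) = G.tt f (b * c) :=
    fun b => ⟨⟨G.kt (a.mapN _ _ b.2.1) (mul_mem (inv_mem b.2.2) (a.mapC b.2.2)), rfl⟩, by
      rw [tt, map_mul, map_mul, map_mul, a.tw_eV, hf, AH.tw_dl]
      exact congrArg (fun x => eV cs h X l * dl x * eV cs h X l * mp Φ f) (mul_inv_cancel_left b.1.2 (δ b.1.2)).symm⟩
  have hS : AH.tw σ δ ((G.dat C).E (G.res C lam)) = (G.dat C).E (G.res C lam) := by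
    have := Fintype.ofFinite (G.dat C).π.ker
    rw [AH.Dat.E_def, AH.tw_smul, map_inv₀, map_natCast, map_sum]
    refine congrArg _ (Finset.sum_congr rfl fun b _ => ?_)
    rw [AH.tw_smul, res_apply, fix_of_sq (by rw [inv_pow, hl, inv_one]), dat_t, tt, map_mul, map_mul, map_mul, a.tw_eV,
      hf, AH.tw_dl, a.fixT _ (G.mem_T b.2)]
  refine hM J W' M' cs' _ Y (G.dat C) (G.res C lam) σ δ ⟨St.five cs' h', AH.tw_smul σ δ, fun b _ => ?_,
    fun u hu => ⟨1, by rw [pow_one, pow_two]; exact hsq u hu⟩, fun f hf u => ?_, Or.inr ⟨_, G.whit_ne C _ hE hv hy, ?_,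
    fun b hb => ?_, ?_⟩⟩ χ hχ h3 z
  · obtain ⟨c, hc⟩ := ht b
    exact ⟨_, by rw [map_mul, hS, dat_t, hc]; exact (G.dat C).t_ker_E _ b c.2⟩
  · rw [← map_mul]
    exact hf _ (hsq u u.2)
  · rw [← mul_assoc, ← mul_assoc, AH.Dat.E_mul_E]
  · obtain ⟨c, hc⟩ := G.whit_span C _ hpsi hv hy ((G.dat C).t b * dl y.1.2)
    exact ⟨c, by rw [← hc, ← mul_assoc, ← mul_assoc, AH.Dat.t_E, (G.dat C).mem_Nl.1 hb, mul_assoc _ ((G.dat C).t b)]⟩
  · obtain ⟨c, hc⟩ := G.whit_span C _ hpsi hv hy (dl (δ y.1.2))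
    exact ⟨c • 1, by rw [mul_smul_comm, mul_one, ← hc, map_mul, map_mul, hS, AH.tw_dl, tw_av σ δ psi a.mapU hδ]⟩

/-- the principal series -/
theorem fix_ps {v : W} (hv : ∀ b, rep cs hT v b = -b) {lam : ↥T →* ℂˣ} (h1 : v ∈ Wst R lam)
    (hodd : ∃ m : ℕ, Odd m ∧ mB R lam χ = m) (z : Y) : χ (δ z) = σ (χ z) := by
  have hl : ∀ t, lam t ^ 2 = 1 := K.pow_of_gen hgen fun j => K.sq_of_neg (fun _ => pow_zero _) h1 (hv _)
  refine fix_of_mB R hM G.nd.top G.nd.comm (St.five cs h) (lam := lam) ⟨a.mapU, fun t ht => by rwa [a.fixT t ht],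
    fun t ht => ?_, fun u k hk _ => a.mapN u k hk⟩ (fun u hu => ?_) (Or.inr a.psi) hχ hodd z
  · rw [fix_of_sq (hl _)]
    congr 3
    exact a.fixT t ht
  · rw [← pow_two]
    exact (K.mono (dvd_zero 2)).pow_mem_self two_pos hl hu

theorem fix1 (hodd : ∃ d : ℕ, Odd d ∧ lin χ (eU cs h X * av (P := (Φ.comp SL2.tor).range) 1) = d) (z : Y) :
    χ (δ z) = σ (χ z) := by
  obtain ⟨v, hv, hv'⟩ := G.sb.neg
  obtain ⟨y, hy⟩ := G.exists_y hv
  have hk : Rp cs R.nsys v (y.1.2 * Φ SL2.wel) := hy ▸ y.2.1.mul G.nd.wel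
  have hw : ∀ ν : (PS.dat R G.nd.top G.nd.comm).Wt, ∃ lam, ν = wt R G.nd.top G.nd.comm lam := fun ν =>
    ⟨ν.comp (kerT R G.nd.top G.nd.comm).symm.toMonoidHom, MonoidHom.ext fun t => by simp [wt]⟩
  obtain ⟨ν, -, h2, h3⟩ := exists_fix_odd (PS.dat R G.nd.top G.nd.comm) (Characters.Core.isIrr_isCharacter hχ)
    (a := ⟨_, mem_NN.2 ⟨v, hk⟩⟩) (by rw [map_mul, PS.dat_pi, piN_eq R (g := ⟨_, mem_NN.2 ⟨v, hk⟩⟩) hk, neg_sq hv])
    (fun ν => ∀ u, ν ((kerT R G.nd.top G.nd.comm).symm ⟨_, G.nd.tor u⟩) = 1) (fun ν hν u => by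
      rw [AH.Dat.act_apply, ← hν u⁻¹]
      refine congrArg ν (Subtype.ext (Subtype.ext ?_))
      show (y.1.2 * Φ SL2.wel)⁻¹ * Φ (SL2.tor u) * (y.1.2 * Φ SL2.wel) = Φ (SL2.tor u⁻¹)
      have h1 := congrArg Φ (SL2.wel_mul_tor u⁻¹)
      rw [inv_inv, map_mul, map_mul] at h1
      rw [mul_assoc, ← mul_assoc (Φ _), mem_CS.1 y.2.2, mul_assoc, ← h1]
      group)
    (z := av (P := (Φ.comp SL2.tor).range) 1) (fun ν hν => by
      obtain ⟨lam, rfl⟩ := hw ν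
      rw [E_wt]
      refine mul_av_eq _ ?_
      rintro ⟨_, u, rfl⟩
      exact (eB_mul_t R lam (G.nd.tor u)).trans (congrArg (fun c : ℂˣ => (c : ℂ) • _) (hν u))) (fun ν hν => by
      obtain ⟨lam, rfl⟩ := hw ν
      obtain ⟨u, hu⟩ := not_forall.1 hν
      rw [E_wt]
      have h1 : (((lam ⟨_, G.nd.tor u⟩ : ℂˣ) : ℂ) - 1) •
          (H684.OQ.eB R lam * av (P := (Φ.comp SL2.tor).range) 1) = 0 := by
        rw [sub_smul, one_smul, ← smul_mul_assoc, ← eB_mul_t R lam (G.nd.tor u), mul_assoc,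
          dl_mul_av_one (P := (Φ.comp SL2.tor).range) (u := Φ (SL2.tor u)) ⟨u, rfl⟩, sub_self]
      exact (smul_eq_zero.1 h1).resolve_left fun h2 => hu (Units.val_eq_one.1 (sub_eq_zero.1 h2)))
    (by rw [PS.dat_t, Subgroup.coe_one, ta_one]; exact hodd)
  obtain ⟨lam, rfl⟩ := hw ν
  rw [E_wt, lin_eB] at h3
  exact G.fix_ps hM K hgen a hχ hv' ⟨_, hk, (mem_Nl R G.nd.top G.nd.comm).1 h2⟩ h3 z

end Gd

end Cfsg.Agent.ODD.PS.C3
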