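import Cfsg.Agent.ODD.AH.Defs
import Cfsg.Agent.H684.OQ.Alf
import Cfsg.Agent.H381.OQ.MackeyB

/-!
# ODD / GAL, odd `q`: the Hecke datum of a root group datum (helper6)

* `piN R : NN →* W`, `dat R hG hc : AH.Dat cs (NN cs R.nsys) (Al Y)`, `wt R hG hc lam` the weight of `lam : T →* ℂˣ`;
* `E_wt` : `E (wt lam) = eB R lam`, `lin_eB` : `lin χ (eB R lam) = mB R lam χ`;
* `Rg R lam` : the subgroup of `W` generated by the reflections `w⁻¹ s_i w` with `zet R i (lam^w) ≠ 0`; `Rg_le`.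
-/

set_option autoImplicit false
set_option linter.unusedSectionVars false

open Cfsg

namespace Cfsg.Agent.ODD.PS

open CoxeterSystem Cfsg.Agent.ChevalleyStructure.CoxeterGeom Cfsg.Agent.Tits.Roots Cfsg.Agent.Nodes.Reps
  Cfsg.Agent.Nodes.BNOf Cfsg.Agent.Nodes.Bruhat Cfsg.Agent.Nodes.OppDec Cfsg.Agent.H684.OQ Cfsg.Agent.H381.OQ

variable {I W Y : Type} [Fintype I] [DecidableEq I] [Group W] [Finite W] [Group Y] [Finite Y]
  {M : CoxeterMatrix I} {cs : CoxeterSystem M W} {A : I → I → ℤ} {h : IsCartan M A} {p : ℕ} {T : Subgroup Y}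
  {n : I → Y} {X : (I → ℤ) → Subgroup Y} (R : RGD cs h p T n X)

include R

theorem rp_unique {v w : W} {g : Y} (hv : Rp cs R.nsys v g) (hw : Rp cs R.nsys w g) : v = w := by
  have h1 := hv.inv.mul hw
  rw [inv_mul_cancel] at h1
  exact inv_mul_eq_one.1 (R.eq_one_of_mem_B h1 (one_mem _))

/-- the projection `N → W` -/
noncomputable def piN : ↥(NN cs R.nsys) →* W :=
  MonoidHom.mk' (fun g => (mem_NN.1 g.2).choose) fun a b =>
    rp_unique R (mem_NN.1 (a * b).2).choose_spec ((mem_NN.1 a.2).choose_spec.mul (mem_NN.1 b.2).choose_spec)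

theorem rp_piN (g : ↥(NN cs R.nsys)) : Rp cs R.nsys (piN R g) g := (mem_NN.1 g.2).choose_spec

theorem piN_eq {w : W} {g : ↥(NN cs R.nsys)} (hg : Rp cs R.nsys w g) : piN R g = w := rp_unique R (rp_piN R g) hg

theorem piN_eq_one {g : ↥(NN cs R.nsys)} : piN R g = 1 ↔ (g : Y) ∈ T :=
  ⟨fun h1 => (h1 ▸ rp_piN R g).mem_of_one, fun h1 => piN_eq R (rp_of_mem h1)⟩

theorem conj_T {w : W} {g : Y} (hg : Rp cs R.nsys w g) {t : Y} (ht : t ∈ T) : g * t * g⁻¹ ∈ T :=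
  (Subgroup.mem_normalizer_iff.1 hg.mem_normalizer t).1 ht

theorem conj_T' {w : W} {g : Y} (hg : Rp cs R.nsys w g) {t : Y} (ht : t ∈ T) : g⁻¹ * t * g ∈ T := by
  have := conj_T R hg.inv ht
  rwa [inv_inv] at this

open Classical in
theorem ta_n_inv (i : I) [Fintype (X (sr i))] : ta cs h X (n i) * ta cs h X (n i)⁻¹ =
    (Nat.card (X (sr i)) : ℂ)⁻¹ • ∑ x : X (sr i), (if x = 1 then eU cs h X else ta cs h X (tx R i x * n i)) := by
  have hz := R.sq_mem_T i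
  have e : (n i)⁻¹ = n i * (n i * n i)⁻¹ := by group
  rw [e, ta_mul_t R (inv_mem hz), ← mul_assoc, ta_sq R i, smul_mul_assoc, Finset.sum_mul]
  congr 1
  refine Finset.sum_congr rfl fun x _ => ?_
  split_ifs with hx
  · rw [← ta_mul_t R (inv_mem hz), mul_inv_cancel, ta_one]
  · rw [mul_assoc, ← ta_mul_t R (inv_mem hz), mul_inv_cancel, ta_one, ← ta_t_mul R (tx_mem R i x), ta_mul_eU]

omit R [Finite Y] in
open Classical in
theorem coeff_eq_lin (a : Al Y) : a.coeff 1 = lin (fun y : Y => if y = 1 then (1 : ℂ) else 0) a := by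
  induction a using al_induction with
  | hd g =>
    rw [lin_dl]
    simp [dl, Finsupp.single_apply]
  | ha a b ha hb => rw [map_add, ← ha, ← hb]; simp
  | hs c a ha => rw [map_smul, ← ha]; simp

/-- the coefficient of `1` in `P g Q` -/
theorem coeff_av {P Q : Subgroup Y} (φ : P →* ℂˣ) (ψ : Q →* ℂˣ) {g : Y}
    (hg : ∀ u ∈ P, ∀ v ∈ Q, u * g * v ≠ 1) : (av φ * dl g * av ψ).coeff 1 = 0 := by
  classical
  have := Fintype.ofFinite P
  have := Fintype.ofFinite Q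
  have e1 : av φ * dl g * av ψ = (av φ * dl g) * av ψ * 1 := (mul_one _).symm
  rw [coeff_eq_lin, e1, lin_av]
  refine smul_eq_zero_of_right _ (Finset.sum_eq_zero fun v _ => smul_eq_zero_of_right _ ?_)
  have e2 : av φ * dl g * dl (v : Y) * 1 = 1 * av φ * (dl g * dl (v : Y)) := by
    rw [one_mul, mul_one, mul_assoc]
  rw [e2, lin_av]
  refine smul_eq_zero_of_right _ (Finset.sum_eq_zero fun u _ => smul_eq_zero_of_right _ ?_)
  rw [one_mul, ← dl_mul, ← dl_mul, lin_dl, ← mul_assoc, if_neg (hg u u.2 v v.2)]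

omit R in
theorem coeff_av_one {P : Subgroup Y} (φ : P →* ℂˣ) : (av φ).coeff 1 = (Nat.card P : ℂ)⁻¹ := by
  classical
  have := Fintype.ofFinite P
  have e1 : av φ = 1 * av φ * 1 := by rw [one_mul, mul_one]
  rw [coeff_eq_lin, e1, lin_av, Finset.sum_eq_single 1]
  · simp [lin_dl]
  · intro u _ hu
    rw [one_mul, mul_one, lin_dl, if_neg (fun h1 : (u : Y) = 1 => hu (Subtype.ext h1)), smul_zero]
  · intro hu
    exact absurd (Finset.mem_univ _) hu

omit R in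
theorem av_ne {P : Subgroup Y} (φ : P →* ℂˣ) : av φ ≠ 0 := fun h0 => by
  have h1 := coeff_av_one φ
  rw [h0] at h1
  exact inv_ne_zero (card_ne P) (by simpa using h1.symm)

theorem ne_one_of_rp {w : W} {g : Y} (hg : Rp cs R.nsys w g) (hw : w ≠ 1) {u v : Y} (hu : u ∈ RGD.B cs h T X)
    (hv : v ∈ RGD.B cs h T X) : u * g * v ≠ 1 := fun e => by
  refine hw (R.eq_one_of_mem_B hg ?_)
  have : g = u⁻¹ * (u * g * v) * v⁻¹ := by group
  rw [this, e, mul_one]
  exact mul_mem (inv_mem hu) (inv_mem hv)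

variable (hG : GG cs h T X = ⊤) (hc : ∀ a ∈ T, ∀ b ∈ T, a * b = b * a)

/-- **the Hecke datum** -/
noncomputable def dat : AH.Dat cs ↥(NN cs R.nsys) (Al Y) where
  π := piN R
  n i := ⟨n i, mem_NN.2 ⟨_, rp_simple cs R.nsys i⟩⟩
  π_n i := piN_eq R (rp_simple cs R.nsys i)
  comm a b ha hb := Subtype.ext (hc _ ((piN_eq_one R).1 ha) _ ((piN_eq_one R).1 hb))
  t a := ta cs h X a
  t_left _ a hh := ta_t_mul R ((piN_eq_one R).1 hh) a
  t_right a _ hh := ta_mul_t R ((piN_eq_one R).1 hh) a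
  add _ a hl := ta_n_mul R (rp_piN R a) hl
  quad i := by
    classical
    have := Fintype.ofFinite (X (sr i))
    refine ⟨(Nat.card (X (sr i)) : ℂ)⁻¹, inv_ne_zero (card_ne _), ?_⟩
    show ta cs h X (n i) * ta cs h X (n i)⁻¹ - _ • ta cs h X 1 ∈ _
    rw [ta_n_inv R i, ← smul_sub, ta_one, ← Finset.add_sum_erase _ _ (Finset.mem_univ 1), if_pos rfl,
      add_sub_cancel_left]
    refine Submodule.smul_mem _ _ (Submodule.sum_mem _ fun x hx => ?_)
    rw [if_neg (Finset.mem_erase.1 hx).1]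
    have hr : Rp cs R.nsys (cs.simple i) (tx R i x * n i) := by
      have := (rp_of_mem (cs := cs) (hN := R.nsys) (tx_mem R i x)).mul (rp_simple cs R.nsys i)
      rwa [one_mul] at this
    exact Submodule.subset_span ⟨⟨_, mem_NN.2 ⟨_, hr⟩⟩, piN_eq R hr, rfl⟩
  span x := by
    show ta cs h X 1 * x * ta cs h X 1 ∈ _
    rw [ta_one]
    induction x using al_induction with
    | hd y =>
      have hy : y ∈ GG cs h T X := by rw [hG]; exact Subgroup.mem_top y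
      obtain ⟨w, b₁, hb₁, k, hk, b₂, hb₂, rfl⟩ := (mem_GG R).1 hy
      obtain ⟨t₁, ht₁, u₁, hu₁, rfl⟩ := R.mem_B.1 hb₁
      obtain ⟨t₂, ht₂, u₂, hu₂, rfl⟩ := R.mem_B.1 hb₂
      have hu₁' : t₁ * u₁ * t₁⁻¹ ∈ UU cs h X := (Subgroup.mem_normalizer_iff.1 (R.T_le_normalizer_U ht₁) u₁).1 hu₁
      have hr : Rp cs R.nsys w (t₁ * k * t₂) := by
        have := ((rp_of_mem (cs := cs) (hN := R.nsys) ht₁).mul hk).mul_mem_right ht₂
        rwa [one_mul] at this
      refine Submodule.subset_span ⟨⟨_, mem_NN.2 ⟨_, hr⟩⟩, ?_⟩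
      show ta cs h X (t₁ * k * t₂) = ta cs h X (t₁ * u₁ * k * (t₂ * u₂))
      have e : t₁ * u₁ * k * (t₂ * u₂) = (t₁ * u₁ * t₁⁻¹) * ((t₁ * k * t₂) * u₂) := by group
      rw [e, ta_u_mul hu₁', ta_mul_u hu₂]
    | ha a b ha hb => rw [mul_add, add_mul]; exact add_mem ha hb
    | hs c a ha => rw [mul_smul_comm, smul_mul_assoc]; exact Submodule.smul_mem _ c ha
  tr0 a ha := by
    rw [AH.trace_mulLeft]
    refine mul_eq_zero_of_right _ (coeff_av R _ _ fun u hu v hv => ?_)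
    exact ne_one_of_rp R (rp_piN R a) ha (RGD.U_le_B hu) (RGD.U_le_B hv)

theorem dat_t (a : ↥(NN cs R.nsys)) : (dat R hG hc).t a = ta cs h X a := rfl

theorem dat_pi (a : ↥(NN cs R.nsys)) : (dat R hG hc).π a = piN R a := rfl

theorem dat_n (i : I) : (((dat R hG hc).n i : ↥(NN cs R.nsys)) : Y) = n i := rfl

/-- the kernel of `π` is `T` -/
noncomputable def kerT : ↥(dat R hG hc).π.ker ≃* ↥T where
  toFun a := ⟨(a : ↥(NN cs R.nsys)), (piN_eq_one R).1 a.2⟩
  invFun t := ⟨⟨t, mem_NN.2 ⟨1, rp_of_mem t.2⟩⟩, (piN_eq_one R).2 t.2⟩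
  left_inv _ := rfl
  right_inv _ := rfl
  map_mul' _ _ := rfl

/-- the weight of a linear character of `T` -/
noncomputable def wt (lam : ↥T →* ℂˣ) : (dat R hG hc).Wt := lam.comp (kerT R hG hc).toMonoidHom

theorem wt_injective : Function.Injective (wt R hG hc) := fun a b e => by
  ext t
  have := DFunLike.congr_fun e ((kerT R hG hc).symm t)
  exact congrArg Units.val this

theorem act_wt (g : ↥(NN cs R.nsys)) (lam : ↥T →* ℂˣ) :
    (dat R hG hc).act g (wt R hG hc lam) = wt R hG hc (cjl (rp_piN R g).mem_normalizer lam) := by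
  ext t
  refine congrArg (fun x => ((lam x : ℂˣ) : ℂ)) (Subtype.ext ?_)
  show ((g⁻¹ * t * g⁻¹⁻¹ : ↥(NN cs R.nsys)) : Y) = (g : Y)⁻¹ * ((t : ↥(NN cs R.nsys)) : Y) * g
  rw [inv_inv]
  rfl

omit [Finite W] [Finite Y] in
theorem cjl_eq_iff {w : W} {g : Y} (hg : Rp cs R.nsys w g) {mu lam : ↥T →* ℂˣ} :
    cjl hg.mem_normalizer lam = mu ↔ Cj T mu lam g := by
  constructor
  · rintro rfl t ht ht'
    rfl
  · intro H
    ext t
    exact congrArg Units.val (H t t.2 _).symm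

theorem mem_Nl {g : ↥(NN cs R.nsys)} {lam : ↥T →* ℂˣ} :
    g ∈ (dat R hG hc).Nl (wt R hG hc lam) ↔ Cj T lam lam g := by
  show (dat R hG hc).act g (wt R hG hc lam) = wt R hG hc lam ↔ _
  rw [act_wt, (wt_injective R hG hc).eq_iff, cjl_eq_iff R (rp_piN R g)]

theorem mem_Wl {w : W} {lam : ↥T →* ℂˣ} :
    w ∈ (dat R hG hc).Wl (wt R hG hc lam) ↔ ∃ g, Rp cs R.nsys w g ∧ Cj T lam lam g := by
  constructor
  · rintro ⟨g, hg, rfl⟩
    exact ⟨g, rp_piN R g, (mem_Nl R hG hc).1 hg⟩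
  · rintro ⟨g, hg, hC⟩
    exact ⟨⟨g, mem_NN.2 ⟨w, hg⟩⟩, (mem_Nl R hG hc).2 hC, piN_eq R hg⟩

theorem eB_eq (lam : ↥T →* ℂˣ) : H684.OQ.eB R lam = av lam * eU cs h X := by
  have h1 : eU cs h X * av lam = av lam * eU cs h X := by
    have := Fintype.ofFinite T
    rw [av_def, mul_smul_comm, smul_mul_assoc, Finset.mul_sum, Finset.sum_mul]
    congr 1
    refine Finset.sum_congr rfl fun t _ => ?_
    rw [mul_smul_comm, smul_mul_assoc, dl_t_comm_eU R t.2]
  have h2 := eB_mul_eq R lam (a := av lam * eU cs h X) (by rw [← mul_assoc, h1, mul_assoc, eU_mul_eU])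
    fun t ht => by rw [← mul_assoc, dl_mul_av lam ⟨t, ht⟩, smul_mul_assoc]
  rw [← h2, ← mul_assoc]
  have h3 := avg_eq lam (a := H684.OQ.eB R lam) (b := eU cs h X) (c := H684.OQ.eB R lam) fun t => by
    rw [eB_mul_t R lam t.2, smul_mul_assoc, eB_mul_eU, smul_smul, Units.inv_mul, one_smul]
  exact h3.symm

theorem E_wt (lam : ↥T →* ℂˣ) : (dat R hG hc).E (wt R hG hc lam) = H684.OQ.eB R lam := by
  have := Fintype.ofFinite T
  rw [eB_eq, av_def, smul_mul_assoc, Finset.sum_mul, AH.Dat.E, Nat.card_congr (kerT R hG hc).toEquiv]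
  congr 1
  let _ := Fintype.ofFinite ↥(dat R hG hc).π.ker
  refine Fintype.sum_equiv (kerT R hG hc).toEquiv _ _ fun t => ?_
  rw [smul_mul_assoc, dat_t, ta_t R ((piN_eq_one R).1 t.2)]
  rfl

theorem lin_eB (χ : Y → ℂ) (lam : ↥T →* ℂˣ) : lin χ (H684.OQ.eB R lam) = mB R lam χ := by
  have := Fintype.ofFinite ↥(RGD.B cs h T X)
  have e1 : H684.OQ.eB R lam = 1 * av (infl R lam) * 1 := by rw [one_mul, mul_one]; rfl
  rw [e1, lin_av, mB, finsum_eq_sum_of_fintype, smul_eq_mul]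
  congr 1
  refine Finset.sum_congr rfl fun b _ => ?_
  rw [one_mul, mul_one, lin_dl, smul_eq_mul]

/-! ### the good reflections -/

theorem tx_conj (i : I) {t x : Y} (ht : t ∈ T) (hx : x ∈ X (sr i)) (hx1 : x ≠ 1)
    (hc : ∀ a ∈ T, ∀ b ∈ T, a * b = b * a) :
    tx R i (t * x * t⁻¹) = tx R i x * (n i * t * (n i)⁻¹ * t⁻¹) := by
  have hni := rp_simple cs R.nsys i
  have hX : ∀ s ∈ T, ∀ y ∈ X (sr i), s * y * s⁻¹ ∈ X (sr i) := fun s hs y hy => by
    rw [← R.tor _ (isRoot_sr cs h i) s hs]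
    exact conj_mem_cj.2 hy
  obtain ⟨h0, a, ha, b, hb, e⟩ := tx_spec R hx hx1
  have ht' := conj_T R hni ht
  have h1 : t * x * t⁻¹ ≠ 1 := fun h2 => hx1 (by
    have : x = t⁻¹ * (t * x * t⁻¹) * t := by group
    rw [this, h2]; group)
  refine (tx_unique R (hX t ht x hx) h1 (mul_mem h0 (mul_mem ht' (inv_mem ht))) (hX _ ht' a ha) (hX _ ht' b hb) ?_).1
  have h2 : n i * (n i * t * (n i)⁻¹) * (n i)⁻¹ = t := by
    have h3 := hc t ht _ (R.sq_mem_T i)
    calc n i * (n i * t * (n i)⁻¹) * (n i)⁻¹ = (n i * n i * t) * (n i * n i)⁻¹ := by group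
      _ = t := by rw [← h3]; group
  have h3 := hc _ h0 _ ht'
  set t' := n i * t * (n i)⁻¹ with ht'd
  calc n i * (t * x * t⁻¹) * (n i)⁻¹ = t' * (n i * x * (n i)⁻¹) * t'⁻¹ := by rw [ht'd]; group
    _ = t' * a * t'⁻¹ * (t' * tx R i x) * (n i * t' * (n i)⁻¹)⁻¹ * n i * (t' * b * t'⁻¹) := by rw [e]; group
    _ = _ := by rw [h2, ← h3]; group

include hc in
/-- a nonzero sum forces the invariance -/
theorem cjl_of_zet {i : I} {mu : ↥T →* ℂˣ} (hz : zet R i mu ≠ 0) :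
    cjl (rp_simple cs R.nsys i).mem_normalizer mu = mu := by
  classical
  have hni := rp_simple cs R.nsys i
  let _ := Fintype.ofFinite ↥(X (sr i))
  have hX : ∀ s ∈ T, ∀ y ∈ X (sr i), s * y * s⁻¹ ∈ X (sr i) := fun s hs y hy => by
    rw [← R.tor _ (isRoot_sr cs h i) s hs]
    exact conj_mem_cj.2 hy
  have key : ∀ t (ht : t ∈ T), mu ⟨n i * t * (n i)⁻¹, conj_T R hni ht⟩ = mu ⟨t, ht⟩ := by
    intro t ht
    let φ : ↥(X (sr i)) ≃ ↥(X (sr i)) :=
      { toFun := fun x => ⟨t * x * t⁻¹, hX t ht x x.2⟩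
        invFun := fun x => ⟨t⁻¹ * x * t⁻¹⁻¹, hX _ (inv_mem ht) x x.2⟩
        left_inv := fun x => Subtype.ext (by simp only; group)
        right_inv := fun x => Subtype.ext (by simp only; group) }
    have h1 : zet R i mu = zet R i mu * ((mu (⟨n i * t * (n i)⁻¹, conj_T R hni ht⟩ * (⟨t, ht⟩ : ↥T)⁻¹) : ℂˣ) : ℂ) := by
      unfold zet
      rw [Finset.sum_mul]
      refine (Fintype.sum_equiv φ _ _ fun x => ?_).symm
      have e2 : ((φ x : ↥(X (sr i))) : Y) = t * x * t⁻¹ := rfl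
      by_cases hx : (x : Y) = 1
      · rw [if_pos hx, if_pos (by rw [e2, hx]; group), zero_mul]
      · rw [if_neg hx, if_neg (by
          rw [e2]
          intro h2
          apply hx
          have : (x : Y) = t⁻¹ * (t * x * t⁻¹) * t := by group
          rw [this, h2]; group), ← Units.val_mul, ← map_mul]
        congr 2
        exact Subtype.ext (tx_conj R i ht x.2 hx hc).symm
    have h2 := mul_left_cancel₀ hz ((mul_one _).trans h1)
    rw [map_mul, map_inv] at h2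
    exact mul_inv_eq_one.1 (Units.val_eq_one.1 h2.symm)
  ext t
  have h1 := key _ (conj_T' R hni t.2)
  rw [cjl_apply _ _ t.2 (conj_T' R hni t.2), ← h1]
  congr 3
  group

theorem ta_t_eB (lam : ↥T →* ℂˣ) {w : W} {g t : Y} (hg : Rp cs R.nsys w g) (ht : t ∈ T) :
    ta cs h X (t * g) * H684.OQ.eB R lam =
      ((cjl hg.mem_normalizer lam ⟨t, ht⟩ : ℂˣ) : ℂ) • (ta cs h X g * H684.OQ.eB R lam) := by
  have ht' := conj_T' R hg ht
  have e : t * g = g * (g⁻¹ * t * g) := by group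
  rw [e, ta_mul_t R ht', mul_assoc, ta_t R ht', mul_assoc, eU_mul_eB, t_mul_eB R lam ht', mul_smul_comm]
  rfl

theorem ta_n_inv_eB (i : I) (lam : ↥T →* ℂˣ) : ta cs h X (n i) * ta cs h X (n i)⁻¹ * H684.OQ.eB R lam =
    (Nat.card (X (sr i)) : ℂ)⁻¹ • (H684.OQ.eB R lam + zet R i (cjl (rp_simple cs R.nsys i).mem_normalizer lam) •
      (ta cs h X (n i) * H684.OQ.eB R lam)) := by
  classical
  let _ := Fintype.ofFinite ↥(X (sr i))
  rw [ta_n_inv R i, smul_mul_assoc, Finset.sum_mul]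
  congr 1
  unfold zet
  rw [Finset.sum_smul, ← Finset.add_sum_erase _ _ (Finset.mem_univ 1), ← Finset.add_sum_erase _ _ (Finset.mem_univ 1),
    if_pos rfl, if_pos (Subgroup.coe_one _), zero_smul, zero_add, eU_mul_eB]
  congr 1
  refine Finset.sum_congr rfl fun x hx => ?_
  have hx1 := (Finset.mem_erase.1 hx).1
  rw [if_neg hx1, if_neg (fun h1 : (x : Y) = 1 => hx1 (Subtype.ext h1)), ta_t_eB R lam (rp_simple cs R.nsys i) (tx_mem R i x)]

theorem g0_of_zet {i : I} {mu : ↥T →* ℂˣ} (hz : zet R i mu ≠ 0) : (dat R hG hc).G0 (wt R hG hc mu) i := by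
  intro c hcc
  have hni := rp_simple cs R.nsys i
  rw [E_wt] at hcc
  change ta cs h X (n i) * ta cs h X (n i)⁻¹ * _ = _ at hcc
  have h0 := ta_n_inv_eB R i mu
  rw [cjl_of_zet R hc hz] at h0
  have hq := card_ne (X (sr i))
  have hcf : (ta cs h X (n i) * H684.OQ.eB R mu).coeff 1 = 0 := by
    have e : ta cs h X (n i) * H684.OQ.eB R mu = eU cs h X * dl (n i) * H684.OQ.eB R mu := by
      rw [ta, mul_assoc, eU_mul_eB]
    rw [e]
    refine coeff_av R _ _ fun u hu v hv => ne_one_of_rp R hni (fun h1 => ?_) (RGD.U_le_B hu) hv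
    have h2 := cs.length_simple i
    rw [h1, cs.length_one] at h2
    exact zero_ne_one h2
  have h1 : zet R i mu • (ta cs h X (n i) * H684.OQ.eB R mu) =
      ((Nat.card (X (sr i)) : ℂ) * c - 1) • H684.OQ.eB R mu := by
    rw [sub_smul, mul_smul, ← hcc, h0, smul_smul, mul_inv_cancel₀ hq, one_smul, one_smul, add_sub_cancel_left]
  have h2 : (Nat.card (X (sr i)) : ℂ) * c - 1 = 0 := by
    have h3 := congrArg (fun a : Al Y => a.coeff 1) h1
    simp only [MonoidAlgebra.coeff_smul, Finsupp.smul_apply, hcf, smul_eq_mul, mul_zero] at h3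
    have h4 : (H684.OQ.eB R mu).coeff 1 ≠ 0 := by
      rw [H684.OQ.eB, coeff_av_one]
      exact inv_ne_zero (card_ne _)
    exact (mul_eq_zero.1 h3.symm).resolve_right h4
  rw [h2, zero_smul] at h1
  have h3 := (smul_eq_zero.1 h1).resolve_left hz
  have h4 : ta cs h X (n i) * ta cs h X (n i)⁻¹ * H684.OQ.eB R mu = 0 := by
    have e : (n i)⁻¹ = (n i * n i)⁻¹ * n i := by group
    rw [mul_assoc, e, ta_t_eB R mu hni (inv_mem (R.sq_mem_T i)), h3, smul_zero, mul_zero]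
  rw [h4, h3, smul_zero, add_zero] at h0
  exact av_ne _ ((smul_eq_zero.1 h0.symm).resolve_left (inv_ne_zero hq))

/-- the subgroup generated by the good reflections -/
def Rg (lam : ↥T →* ℂˣ) : Subgroup W := Subgroup.closure
  {r | ∃ (w : W) (g : Y) (hg : Rp cs R.nsys w g) (i : I), r = w⁻¹ * cs.simple i * w ∧
    zet R i (cjl hg.mem_normalizer lam) ≠ 0}

theorem mem_Rg {lam : ↥T →* ℂˣ} {w : W} {g : Y} (hg : Rp cs R.nsys w g) {i : I}
    (hz : zet R i (cjl hg.mem_normalizer lam) ≠ 0) : w⁻¹ * cs.simple i * w ∈ Rg R lam :=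
  Subgroup.subset_closure ⟨w, g, hg, i, rfl, hz⟩

theorem Rg_le (lam : ↥T →* ℂˣ) : Rg R lam ≤ (dat R hG hc).Rl (wt R hG hc lam) := by
  refine Subgroup.closure_mono ?_
  rintro r ⟨w, g, hg, i, rfl, hz⟩
  refine ⟨⟨g, mem_NN.2 ⟨w, hg⟩⟩, i, ?_, ?_⟩
  · rw [dat_pi, piN_eq R (g := ⟨g, mem_NN.2 ⟨w, hg⟩⟩) hg]
  · rw [act_wt]
    exact g0_of_zet R hG hc hz

theorem zet_ne_of_one {i : I} {mu : ↥T →* ℂˣ} (h1 : ∀ x ∈ X (sr i), x ≠ 1 → mu ⟨tx R i x, tx_mem R i x⟩ = 1) :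
    zet R i mu ≠ 0 := by
  classical
  let _ := Fintype.ofFinite ↥(X (sr i))
  unfold zet
  have h2 : ∀ x : ↥(X (sr i)), (if (x : Y) = 1 then (0 : ℂ) else ((mu ⟨tx R i x, tx_mem R i x⟩ : ℂˣ) : ℂ)) =
      ((if (x : Y) = 1 then 0 else 1 : ℕ) : ℂ) := fun x => by
    split_ifs with hx
    · simp
    · rw [h1 x x.2 hx]; simp
  rw [Finset.sum_congr rfl fun x _ => h2 x, ← Nat.cast_sum, Nat.cast_ne_zero]
  obtain ⟨u, hu, hu1⟩ := exists_ne_one R i
  intro h0
  have h3 := Finset.sum_eq_zero_iff.1 h0 ⟨u, hu⟩ (Finset.mem_univ _)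
  rw [if_neg hu1] at h3
  exact one_ne_zero h3

end Cfsg.Agent.ODD.PS
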