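import Cfsg.Agent.ODD.PS.Dat
import Cfsg.Agent.H381.OQ.Half

/-!
# ODD / GAL, odd `q`: the principal series of a root group datum (helper6)

* `Wst R hc lam` : the stabiliser of `lam` in `W`;
* `exists_lam` (P1) : `NoFix`, `χ` of odd degree: there is `lam` with odd multiplicity and a stabiliser of odd index;
* `Aut R σ δ lam` : the pair `σ`, `δ` fixes the data;
* `fix_of_mB` : from box AH, `χ (δ g) = σ (χ g)`.
-/

set_option autoImplicit false
set_option linter.unusedSectionVars false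

open Cfsg

namespace Cfsg.Agent.ODD.PS

open CoxeterSystem Cfsg.Agent.ChevalleyStructure.CoxeterGeom Cfsg.Agent.Tits.Roots Cfsg.Agent.Nodes.Reps
  Cfsg.Agent.Nodes.BNOf Cfsg.Agent.Nodes.Bruhat Cfsg.Agent.Nodes.OppDec Cfsg.Agent.H684.OQ Cfsg.Agent.H381.OQ
  Cfsg.Agent.Characters

/-! ### subgroups of odd index -/

section odd

variable {G : Type*} [Group G] [Finite G] {H : Subgroup G}

/-- an element which normalises a subgroup of odd index and has a `2`-power in it lies in it -/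
theorem mem_of_odd_index (hH : Odd H.index) {g : G} (hg : g ∈ Subgroup.normalizer (H : Set G)) {k : ℕ}
    (hk : g ^ 2 ^ k ∈ H) : g ∈ H := by
  let N := Subgroup.normalizer (H : Set G)
  have : (H.subgroupOf N).Normal := Subgroup.normal_in_normalizer
  have h1 : orderOf (QuotientGroup.mk (s := H.subgroupOf N) ⟨g, hg⟩) ∣ 2 ^ k := by
    apply orderOf_dvd_of_pow_eq_one
    rw [← QuotientGroup.mk_pow, QuotientGroup.eq_one_iff, Subgroup.mem_subgroupOf]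
    exact hk
  have h2 : orderOf (QuotientGroup.mk (s := H.subgroupOf N) ⟨g, hg⟩) ∣ H.index :=
    (orderOf_dvd_natCard _).trans (Subgroup.relIndex_dvd_index_of_le Subgroup.le_normalizer)
  have h3 := Nat.dvd_gcd h1 h2
  rw [(Nat.Coprime.pow_left k (Nat.coprime_two_left.2 hH)).gcd_eq_one, Nat.dvd_one, orderOf_eq_one_iff,
    QuotientGroup.eq_one_iff, Subgroup.mem_subgroupOf] at h3
  exact h3

/-- a normal `2`-subgroup lies in every subgroup of odd index -/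
theorem le_of_odd_index (hH : Odd H.index) {E : Subgroup G} [E.Normal] (hE : IsPGroup 2 E) : E ≤ H := by
  have : Fact (Nat.Prime 2) := ⟨Nat.prime_two⟩
  have h1 : (H.subgroupOf (H ⊔ E)).index ∣ H.index := Subgroup.relIndex_dvd_index_of_le le_sup_left
  have h2 : H.relIndex (H ⊔ E) = H.relIndex E := by
    have h3 := Subgroup.relIndex_mul_relIndex (H ⊓ E) H (H ⊔ E) inf_le_left le_sup_left
    have h4 := Subgroup.relIndex_mul_relIndex (H ⊓ E) E (H ⊔ E) inf_le_right le_sup_right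
    rw [Subgroup.inf_relIndex_left] at h3
    rw [Subgroup.inf_relIndex_right, Subgroup.relIndex_sup_right] at h4
    have h5 : E.relIndex H ≠ 0 := Subgroup.index_ne_zero_of_finite
    exact mul_left_cancel₀ h5 (h3.trans (h4.symm.trans (mul_comm _ _)))
  obtain ⟨k, hk⟩ := hE.index (H.subgroupOf E)
  have h3 : 2 ^ k ∣ H.index := by
    rw [← hk]
    exact (dvd_of_eq h2.symm).trans h1
  have h4 : k = 0 := by
    by_contra h5
    exact (Nat.not_even_iff_odd.2 hH) (even_iff_two_dvd.2 ((dvd_pow_self 2 h5).trans h3))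
  rw [h4, pow_zero, Subgroup.index_eq_one, Subgroup.subgroupOf_eq_top] at hk
  exact hk

theorem mem_of_center (hH : Odd H.index) {g : G} (hg : ∀ x, g * x = x * g) (h2 : g * g = 1) : g ∈ H :=
  mem_of_odd_index hH (Subgroup.mem_normalizer_iff.2 fun x => by rw [hg x, mul_inv_cancel_right]) (k := 1)
    (by rw [pow_one, pow_two, h2]; exact one_mem _)

end odd

/-! ### the twist of an average -/

theorem tw_av {Y : Type} [Group Y] [Finite Y] (σ : ℂ ≃+* ℂ) (δ : Y ≃* Y) {P : Subgroup Y} (ψ : P →* ℂˣ)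
    (hP : ∀ u ∈ P, δ u ∈ P) (hψ : ∀ u (hu : u ∈ P), ((ψ ⟨δ u, hP u hu⟩ : ℂˣ) : ℂ) = σ (ψ ⟨u, hu⟩ : ℂˣ)) :
    AH.tw σ δ (av ψ) = av ψ := by
  have := Fintype.ofFinite P
  rw [av_def, AH.tw_smul, map_sum, map_inv₀, map_natCast]
  congr 1
  have hb : Function.Bijective fun u : P => (⟨δ u, hP u u.2⟩ : P) :=
    Finite.injective_iff_bijective.1 fun a b e => Subtype.ext (δ.injective (congrArg Subtype.val e))
  refine Fintype.sum_equiv (Equiv.ofBijective _ hb) _ _ fun u => ?_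
  rw [AH.tw_smul, AH.tw_dl, Units.val_inv_eq_inv_val, Units.val_inv_eq_inv_val, map_inv₀, ← hψ u u.2]
  rfl

variable {I W Y : Type} [Fintype I] [DecidableEq I] [Group W] [Finite W] [Group Y] [Finite Y]
  {M : CoxeterMatrix I} {cs : CoxeterSystem M W} {A : I → I → ℤ} {h : IsCartan M A} {p : ℕ} {T : Subgroup Y}
  {n : I → Y} {X : (I → ℤ) → Subgroup Y} (R : RGD cs h p T n X)

include R

/-- the stabiliser of `lam` in `W` -/
def Wst (lam : ↥T →* ℂˣ) : Subgroup W where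
  carrier := {w | ∃ g, Rp cs R.nsys w g ∧ Cj T lam lam g}
  one_mem' := ⟨1, rp_one, fun t ht ht' => by congr 2; group⟩
  mul_mem' := by
    rintro v w ⟨g, hg, h1⟩ ⟨k, hk, h2⟩
    refine ⟨g * k, hg.mul hk, fun t ht ht' => ?_⟩
    rw [h1 t ht (conj_T' R hg ht), h2 _ (conj_T' R hg ht) (conj_T' R hk (conj_T' R hg ht))]
    congr 2
    group
  inv_mem' := by
    rintro v ⟨g, hg, h1⟩
    refine ⟨g⁻¹, hg.inv, fun t ht ht' => ?_⟩
    have e : g⁻¹ * (g⁻¹⁻¹ * t * g⁻¹) * g = t := by group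
    rw [h1 _ ht' (by rw [e]; exact ht)]
    congr 2
    exact e.symm

theorem mem_Wst {lam : ↥T →* ℂˣ} {w : W} : w ∈ Wst R lam ↔ ∃ g, Rp cs R.nsys w g ∧ Cj T lam lam g := Iff.rfl

/-- the choice of the representative does not matter -/
theorem cj_of_mem (hc : ∀ a ∈ T, ∀ b ∈ T, a * b = b * a) {lam : ↥T →* ℂˣ} {w : W} (hw : w ∈ Wst R lam) {g : Y}
    (hg : Rp cs R.nsys w g) : Cj T lam lam g := by
  obtain ⟨k, hk, h1⟩ := hw
  intro t ht ht'
  rw [h1 t ht (conj_T' R hk ht)]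
  congr 2
  have h2 := hc _ (hk.unique hg) _ (conj_T' R hk ht)
  calc k⁻¹ * t * k = (k⁻¹ * g)⁻¹ * ((k⁻¹ * g) * (k⁻¹ * t * k)) := by group
    _ = g⁻¹ * t * g := by rw [h2]; group

theorem mB_nat (lam : ↥T →* ℂˣ) {χ : Y → ℂ} (hχ : IsCharacter Y χ) : ∃ m : ℕ, mB R lam χ = m := by
  have : Fintype Y := Fintype.ofFinite Y
  rw [mB_eq R lam (Core.isCharacter_isClassFunction hχ)]
  exact Core.classInner_isNat hχ (OddOrderCharacters.IndRes.isCharacter_indFun _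
    (Core.isCharacter_comp _ (Core.isIrr_isCharacter (isIrr_chT (cs := cs) (h := h) (X := X) lam))))

theorem odd_U (hp : p.Prime) (hp2 : p ≠ 2) : Odd (Nat.card ↥(RGD.Sup X (RGD.Pos cs h))) := by
  have : Fact p.Prime := ⟨hp⟩
  obtain ⟨k, hk⟩ := (IsPGroup.iff_card (p := p)).1 (R.isPGroup_Upos)
  rw [hk]
  exact (hp.odd_of_ne_two hp2).pow

/-- the sum of the multiplicities -/
theorem sum_mB (hG : GG cs h T X = ⊤) (hc : ∀ a ∈ T, ∀ b ∈ T, a * b = b * a) {χ : Y → ℂ}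
    (hχ : IsIrrCharacter Y χ) {lam : ↥T →* ℂˣ} (h0 : mB R lam χ ≠ 0) [Fintype (↥T →* ℂˣ)] :
    ∑ μ : ↥T →* ℂˣ, mB R μ χ = (Wst R lam).index * mB R lam χ := by
  classical
  let _ := actN R
  have hcl := Core.isIrr_isClassFunction hχ
  have h2 : ∀ μ : ↥T →* ℂˣ, mB R μ χ =
      (if μ ∈ MulAction.orbit ↥(NN cs R.nsys) lam then 1 else 0) * mB R lam χ := by
    intro μ
    split_ifs with hμ
    · obtain ⟨k, hk, hC⟩ := (mem_orbit_iff R).1 hμ
      rw [mB_congr R hG hcl hk hC, one_mul]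
    · rw [zero_mul]
      by_contra h3
      obtain ⟨k, hk, hC⟩ := mB_conj R hG hχ h3 h0
      exact hμ ((mem_orbit_iff R).2 ⟨k, hk, hC⟩)
  rw [Finset.sum_congr rfl fun μ _ => h2 μ, ← Finset.sum_mul, Finset.sum_boole]
  congr 2
  have h4 : (Finset.univ.filter fun μ : ↥T →* ℂˣ => μ ∈ MulAction.orbit ↥(NN cs R.nsys) lam).card =
      Nat.card (MulAction.orbit ↥(NN cs R.nsys) lam) := by
    rw [← Nat.card_eq_finsetCard]
    exact Nat.card_congr (Equiv.subtypeEquivRight fun μ => by simp)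
  have h5 : MulAction.stabilizer ↥(NN cs R.nsys) lam = (Wst R lam).comap (piN R) := by
    ext g
    rw [MulAction.mem_stabilizer_iff, Subgroup.mem_comap]
    constructor
    · intro e
      exact ⟨g, rp_piN R g, fun t ht ht' => (DFunLike.congr_fun e ⟨t, ht⟩).symm⟩
    · intro e
      refine MonoidHom.ext fun t => ?_
      exact (cj_of_mem R hc e (rp_piN R g) t t.2 (cT R g t).2).symm
  rw [h4, Nat.card_coe_set_eq, ← MulAction.index_stabilizer, h5, Subgroup.index_comap_of_surjective]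
  intro w
  obtain ⟨g, hg⟩ := exists_rp cs R.nsys w
  exact ⟨⟨g, mem_NN.2 ⟨w, hg⟩⟩, piN_eq R hg⟩

/-- from an odd sum over `U` -/
theorem exists_lam_of_sum (hG : GG cs h T X = ⊤) (hc : ∀ a ∈ T, ∀ b ∈ T, a * b = b * a) {χ : Y → ℂ}
    (hχ : IsIrrCharacter Y χ) [Fintype ↥(RGD.Sup X (RGD.Pos cs h))] {d : ℕ} (hd : Odd d) {z : ℂ} (hz : IsIntegral ℤ z)
    (e1 : ∑ u : ↥(RGD.Sup X (RGD.Pos cs h)), χ u = d + 2 * z) :
    ∃ lam : ↥T →* ℂˣ, (∃ m : ℕ, Odd m ∧ mB R lam χ = m) ∧ Odd (Wst R lam).index := by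
  classical
  let _ : CommGroup ↥T := { (inferInstance : Group ↥T) with mul_comm := fun a b => Subtype.ext (hc a a.2 b b.2) }
  have hfin : Finite (↥T →* ℂˣ) := by
    obtain ⟨e⟩ := CommGroup.monoidHom_mulEquiv_of_hasEnoughRootsOfUnity ↥T ℂ
    exact Finite.of_equiv _ e.symm.toEquiv
  have : Fintype (↥T →* ℂˣ) := Fintype.ofFinite _
  have e2 := sum_U_eq R hc χ (one_mem T)
  have e3 : ∀ μ : ↥T →* ℂˣ, ((μ ⟨1, one_mem T⟩ : ℂˣ) : ℂ) * mB R μ χ = mB R μ χ := fun μ => by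
    rw [show (⟨1, one_mem T⟩ : ↥T) = 1 from rfl, map_one, Units.val_one, one_mul]
  simp only [one_mul, e3] at e2
  rw [e1] at e2
  have key : ∀ k : ℕ, (d : ℂ) + 2 * z = k → Odd k := by
    intro k hk
    have h1 := two_dvd_of (m := (k : ℤ) - d) hz (by push_cast; rw [← hk]; ring)
    rw [Nat.odd_iff] at hd ⊢
    omega
  obtain ⟨lam, h0⟩ : ∃ lam, mB R lam χ ≠ 0 := by
    by_contra hcon
    push Not at hcon
    rw [Finset.sum_eq_zero fun μ _ => hcon μ, mul_zero] at e2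
    exact Nat.not_odd_zero (key 0 (by rw [e2]; simp))
  obtain ⟨m, hm⟩ := mB_nat R lam (Core.isIrr_isCharacter hχ)
  rw [sum_mB R hG hc hχ h0, hm] at e2
  have h1 := key _ (e2.trans (by push_cast; rfl : _ =
    ((Nat.card ↥(RGD.Sup X (RGD.Pos cs h)) * ((Wst R lam).index * m) : ℕ) : ℂ)))
  have h2 := Nat.odd_mul.1 (Nat.odd_mul.1 h1).2
  exact ⟨lam, ⟨m, h2.2, hm⟩, h2.1⟩

/-- **(P1)** -/
theorem exists_lam (hG : GG cs h T X = ⊤) (hc : ∀ a ∈ T, ∀ b ∈ T, a * b = b * a) (hnf : H69.OQ.NoFix cs h T X)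
    {χ : Y → ℂ} (hχ : IsIrrCharacter Y χ) (hodd : Odd (charDegree χ)) :
    ∃ lam : ↥T →* ℂˣ, (∃ m : ℕ, Odd m ∧ mB R lam χ = m) ∧ Odd (Wst R lam).index := by
  have : Fintype ↥(RGD.Sup X (RGD.Pos cs h)) := Fintype.ofFinite _
  obtain ⟨z, hz, e1⟩ := sum_U R hnf hc hχ (one_mem T)
  simp only [one_mul] at e1
  exact exists_lam_of_sum R hG hc hχ hodd hz (by rw [e1, Blocks.Basic.irr_one_eq_charDegree hχ])

/-- `σ` and `δ` fix the data -/
structure Aut (σ : ℂ ≃+* ℂ) (δ : Y ≃* Y) (lam : ↥T →* ℂˣ) : Prop where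
  mapU : ∀ u ∈ UU cs h X, δ u ∈ UU cs h X
  mapT : ∀ t ∈ T, δ t ∈ T
  val : ∀ t (ht : t ∈ T), ((lam ⟨δ t, mapT t ht⟩ : ℂˣ) : ℂ) = σ (lam ⟨t, ht⟩ : ℂˣ)
  mapN : ∀ w g, Rp cs R.nsys w g → Cj T lam lam g → g⁻¹ * δ g ∈ T

theorem aut_refl {σ : ℂ ≃+* ℂ} {lam : ↥T →* ℂˣ} (hl : ∀ t, σ (lam t : ℂˣ) = (lam t : ℂˣ)) :
    Aut R σ (MulEquiv.refl Y) lam :=
  ⟨fun _ hu => hu, fun _ ht => ht, fun t ht => (hl ⟨t, ht⟩).symm, fun _ g _ _ => by
    rw [MulEquiv.refl_apply, inv_mul_cancel]; exact one_mem _⟩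

variable {R} in
theorem Aut.eU {σ : ℂ ≃+* ℂ} {δ : Y ≃* Y} {lam : ↥T →* ℂˣ} (a : Aut R σ δ lam) :
    AH.tw σ δ (eU cs h X) = eU cs h X :=
  tw_av σ δ _ a.mapU fun _ _ => by simp

variable {R} in
theorem Aut.eB {σ : ℂ ≃+* ℂ} {δ : Y ≃* Y} {lam : ↥T →* ℂˣ} (a : Aut R σ δ lam) :
    AH.tw σ δ (H684.OQ.eB R lam) = H684.OQ.eB R lam := by
  rw [eB_eq, map_mul, a.eU, tw_av σ δ lam a.mapT a.val]

/-- **the principal series** -/
theorem fix_of_mB (hM : AH.Main) (hG : GG cs h T X = ⊤) (hc : ∀ a ∈ T, ∀ b ∈ T, a * b = b * a)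
    (h5 : ∀ r s, cs.IsReflection r → cs.IsReflection s → orderOf (r * s) ≠ 5) {σ : ℂ ≃+* ℂ} {δ : Y ≃* Y}
    {lam : ↥T →* ℂˣ} (a : Aut R σ δ lam) (hsq : ∀ w ∈ Wst R lam, w * w ∈ Rg R lam)
    (hwh : Wst R lam ≤ Rg R lam ∨ ∃ psi : ↥(UU cs h X) →* ℂˣ, Nondeg psi ∧
      ∀ u (hu : u ∈ UU cs h X), ((psi ⟨δ u, a.mapU u hu⟩ : ℂˣ) : ℂ) = σ (psi ⟨u, hu⟩ : ℂˣ))
    {χ : Y → ℂ} (hχ : IsIrrCharacter Y χ) (hodd : ∃ m : ℕ, Odd m ∧ mB R lam χ = m) (g : Y) :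
    χ (δ g) = σ (χ g) := by
  have hsq' : ∀ w ∈ (dat R hG hc).Wl (wt R hG hc lam), w * w ∈ (dat R hG hc).Rl (wt R hG hc lam) :=
    fun w hw => Rg_le R hG hc lam (hsq w ((mem_Wl R hG hc).1 hw))
  refine hM I W M cs _ Y (dat R hG hc) (wt R hG hc lam) σ δ ⟨h5, AH.tw_smul σ δ, ?_, ?_, ?_, ?_⟩ χ hχ ?_ g
  · intro k hk
    have h1 := a.mapN _ k (rp_piN R k) ((mem_Nl R hG hc).1 hk)
    refine ⟨((lam ⟨_, h1⟩ : ℂˣ) : ℂ), ?_⟩
    rw [E_wt, dat_t, map_mul, a.eB, ta, map_mul, map_mul, a.eU, AH.tw_dl]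
    change ta cs h X (δ k) * _ = _ • (ta cs h X k * _)
    have e : ta cs h X (δ k) = ta cs h X (k * ((k : Y)⁻¹ * δ k)) := by rw [mul_inv_cancel_left]
    rw [e, ta_mul_t R h1, mul_assoc, ta_t R h1, mul_assoc, eU_mul_eB, t_mul_eB R lam h1, mul_smul_comm]
  · intro w hw
    exact ⟨1, by rw [pow_one, pow_two]; exact hsq' w hw⟩
  · intro f hf w
    rw [← map_mul]
    exact hf _ (hsq' w w.2)
  · rcases hwh with h1 | ⟨psi, hpsi, h1⟩
    · exact Or.inl fun w hw => Rg_le R hG hc lam (h1 ((mem_Wl R hG hc).1 hw))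
    · obtain ⟨n₀, hn₀⟩ := exists_rp cs R.nsys (Tits.Core.w0 cs)
      refine Or.inr ⟨wv R psi lam n₀, wv_ne R psi lam hn₀, ?_, fun k hk => ?_, ?_⟩
      · rw [E_wt, wv, ← mul_assoc, ← mul_assoc, eB_mul_eB]
      · have h2 : H684.OQ.eB R lam * (ta cs h X k * H684.OQ.eB R lam) = ta cs h X k * H684.OQ.eB R lam := by
          refine eB_mul_eq R lam (by rw [← mul_assoc, eU_mul_ta]) fun t ht => ?_
          have h3 := ta_t_eB R lam (rp_piN R k) ht
          rw [(cjl_eq_iff R (rp_piN R k)).2 ((mem_Nl R hG hc).1 hk), ta_t_mul R ht, ta_t R ht, mul_assoc, mul_assoc,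
            ← mul_assoc (eU cs h X), eU_mul_ta] at h3
          exact h3
        obtain ⟨c, hc'⟩ := eB_span R hG hpsi lam hn₀ (ta cs h X k * H684.OQ.eB R lam * dl n₀)
        refine ⟨c, ?_⟩
        rw [← hc', dat_t, wv, ← mul_assoc (H684.OQ.eB R lam), h2]
        simp only [mul_assoc]
      · obtain ⟨c, hc'⟩ := eB_span R hG hpsi lam hn₀ (dl (δ n₀))
        refine ⟨c • 1, ?_⟩
        rw [mul_smul_comm, mul_one, ← hc', wv, map_mul, map_mul, a.eB, AH.tw_dl, tw_av σ δ psi a.mapU h1]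
  · rw [E_wt, lin_eB]
    exact hodd

end Cfsg.Agent.ODD.PS
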